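import Cfsg.Agent.H976.FC.Char2
import Cfsg.Agent.H786.FC.PartsC4

/-!
# S5764, C4: tensor decompositions, symplectic case (helper976)
-/

set_option autoImplicit false
set_option linter.unusedSectionVars false

open Matrix
open scoped Kronecker

namespace Cfsg.Agent.H976.FC

open Cfsg.Agent.H198.FC

universe u v

section perp

variable {K : Type u} [Field K] {V : Type v} [AddCommGroup V] [Module K V]

/-- `W ∩ W^⊥` -/
def rad (b : Cl K V) (W : Submodule K V) : Submodule K V where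
  carrier := {v | v ∈ W ∧ ∀ w ∈ W, b.B v w = 0}
  add_mem' := by
    rintro x y ⟨hx, hx'⟩ ⟨hy, hy'⟩
    exact ⟨add_mem hx hy, fun w hw => by rw [b.add_left, hx' w hw, hy' w hw, add_zero]⟩
  zero_mem' := ⟨zero_mem _, fun w _ => Cl_zero_left b w⟩
  smul_mem' := by
    rintro a x ⟨hx, hx'⟩
    exact ⟨W.smul_mem a hx, fun w hw => by rw [b.smul_left, hx' w hw, mul_zero]⟩

theorem rad_TI (b : Cl K V) (W : Submodule K V) : b.TI (rad b W) := fun _ hv w hw => hv.2 w hw.1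

theorem ND_of_rad (b : Cl K V) (W : Submodule K V) (h : rad b W = ⊥) : b.ND W := by
  intro v hv hv'
  have h1 : v ∈ rad b W := ⟨hv, hv'⟩
  rw [h] at h1
  exact (Submodule.mem_bot K).1 h1

theorem Cl_left_ext (b : Cl K V) {x y : V} (h : ∀ w, b.B x w = b.B y w) : x = y := by
  have h1 : x + -y = 0 := by
    apply b.nondeg
    intro w
    rw [b.add_left, Cl_neg_left, h w, add_neg_cancel]
  rw [← sub_eq_add_neg] at h1
  exact sub_eq_zero.1 h1

theorem Cl_symm (b : Cl K V) (hb : b.IsSp) (x y : V) : b.B x y = -b.B y x := by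
  have h := hb.2 (x + y)
  rw [b.add_left, b.add_right, b.add_right, hb.2, hb.2, zero_add, add_zero] at h
  exact eq_neg_of_add_eq_zero_left h

/-- the perpendicular part is stable -/
theorem stb_rad (b : Cl K V) (hb : b.IsSp) (hadj : ∀ X : R K V, ∃ X', b.Adj X X') (S : Subgroup (Equiv.Perm (R K V)))
    (hS : S ≤ RB b) (W : Submodule K V) (hW : ∀ f ∈ S, Stb f W) : ∀ f ∈ S, Stb f (rad b W) := by
  intro f hf X hX
  obtain ⟨X', hX'⟩ := hadj X
  have hfX' : b.Adj (f X) (f X') := ((hS hf).2 X X').1 hX'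
  have h1 : ∀ v, f X v ∈ W := hW f hf X fun v => (hX v).1
  -- `X' Y = 0` for `im Y ⊆ W`
  have h2 : ∀ Y : R K V, (∀ v, Y v ∈ W) → X' * Y = 0 := by
    intro Y hY
    apply LinearMap.ext
    intro u
    apply b.nondeg
    intro w
    show b.B (X' (Y u)) w = 0
    rw [Cl_symm b hb, ← hX', (hX w).2 _ (hY u), neg_zero]
  intro v
  refine ⟨h1 v, fun w hw => ?_⟩
  -- an endomorphism with image in `W` and `w` in its image
  by_cases hw0 : w = 0
  · rw [hw0, Cl_zero_right]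
  obtain ⟨φ, hφ⟩ : ∃ φ : V →ₗ[K] K, φ w ≠ 0 := by
    by_contra hcon
    push Not at hcon
    exact hw0 ((Module.forall_dual_apply_eq_zero_iff K w).1 hcon)
  let Y : R K V := (LinearMap.toSpanSingleton K V w).comp ((φ w)⁻¹ • φ)
  have hYw : Y w = w := by
    show ((φ w)⁻¹ • φ) w • w = w
    rw [LinearMap.smul_apply, smul_eq_mul, inv_mul_cancel₀ hφ, one_smul]
  have hYW : ∀ v, Y v ∈ W := fun v => W.smul_mem _ hw
  have hfi : f⁻¹ ∈ S := S.inv_mem hf
  have h3 := h2 _ (hW _ hfi Y hYW)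
  have h4 : f X' * Y = 0 := by
    have h5 : f (X' * f⁻¹ Y) = f X' * f (f⁻¹ Y) := ((hS hf).1).2 _ _
    rw [h3] at h5
    have h6 : f (f⁻¹ Y) = Y := f.apply_symm_apply Y
    have h7 : f 0 = 0 := by
      have := ((hS hf).1).1 0 0
      rw [add_zero] at this
      simpa using this
    rw [h6, h7] at h5
    exact h5.symm
  have h8 : b.B (f X v) w = b.B v (f X' w) := hfX' v w
  have h9 : f X' w = 0 := by
    rw [← hYw]
    show (f X' * Y) w = 0
    rw [h4]; rfl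
  rw [h8, h9, Cl_zero_right]

end perp

theorem sub_kron {K : Type*} [Field K] {I Y : Type*} (A B : Matrix I I K) (C : Matrix Y Y K) :
    (A - B) ⊗ₖ C = A ⊗ₖ C - B ⊗ₖ C := by
  ext ⟨i, k⟩ ⟨j, l⟩
  rw [Matrix.sub_apply, Matrix.kronecker_apply, Matrix.kronecker_apply, Matrix.kronecker_apply, Matrix.sub_apply, sub_mul]

section char2

variable {K : Type u} [Field K] [Finite K] {V : Type v} [AddCommGroup V] [Module K V] [Module.Finite K V]

/-- the stable subspace -/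
theorem exists_W {I Y : Type} [Fintype I] [LinearOrder I] [Fintype Y] [DecidableEq Y] [Nonempty Y]
    (hI : 2 ≤ Fintype.card I) (h2 : (2 : K) = 0)
    (b : Cl K V) (S : Subgroup (Equiv.Perm (R K V))) (hS : S ≤ RB b)
    (Φ : Matrix (I × Y) (I × Y) K ≃ₐ[K] R K V) (N : Matrix I I K) (J : Matrix Y Y K)
    (hadj : ∀ X X', b.Adj (Φ X) (Φ X') ↔ Xᵀ * (N ⊗ₖ J) = (N ⊗ₖ J) * X')
    (hf : ∀ f ∈ S, ∀ B : Matrix I I K, ∃ B' : Matrix I I K, f (Φ (B ⊗ₖ 1)) = Φ (B' ⊗ₖ 1))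
    (hN : N.det ≠ 0) (hNt : Nᵀ = N) (hNd : ¬ ∀ i, N i i = 0) (hJ : J.det ≠ 0) :
    ∃ W : Submodule K V, W ≠ ⊥ ∧ W ≠ ⊤ ∧ ∀ f ∈ S, Stb f W := by
  obtain ⟨p, hpp, hp0, hp1, hp⟩ := exists_p h2 hNt hNd hI
  have hJ0 : J ≠ 0 := by
    rintro rfl
    exact hJ Matrix.det_zero
  have hY0 : (1 : Matrix Y Y K) ≠ 0 := one_ne_zero
  have hmul : ∀ A B : Matrix I I K, Φ (A ⊗ₖ (1 : Matrix Y Y K)) * Φ (B ⊗ₖ 1) = Φ ((A * B) ⊗ₖ 1) := by
    intro A B
    rw [← map_mul, kron_mul_left]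
  -- adjoints of the first factor
  have hadj1 : ∀ B B' : Matrix I I K, b.Adj (Φ (B ⊗ₖ 1)) (Φ (B' ⊗ₖ 1)) ↔ Bᵀ * N = N * B' := by
    intro B B'
    rw [hadj, ← kroneckerMap_transpose, Matrix.transpose_one, ← mul_kronecker_mul, ← mul_kronecker_mul, Matrix.one_mul,
      Matrix.mul_one]
    exact ⟨fun h => kron_left hJ0 h, fun h => by rw [h]⟩
  refine ⟨LinearMap.ker (Φ (p ⊗ₖ 1)), ?_, ?_, ?_⟩
  · intro h
    apply hp1
    have h1 : ∀ X : R K V, Φ (p ⊗ₖ 1) * X = 0 → X = 0 := by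
      intro X hX
      apply LinearMap.ext
      intro v
      have h3 : X v ∈ LinearMap.ker (Φ (p ⊗ₖ 1)) := by
        rw [LinearMap.mem_ker]
        show (Φ (p ⊗ₖ 1) * X) v = 0
        rw [hX]; rfl
      rw [h] at h3
      exact (Submodule.mem_bot K).1 h3
    have h4 := h1 (Φ ((1 - p) ⊗ₖ 1)) (by rw [hmul, mul_sub, mul_one, hpp, sub_self, zero_kronecker, map_zero])
    rw [← map_zero Φ] at h4
    have h5 := Φ.injective h4
    have h6 : (1 - p : Matrix I I K) = 0 := kron_left hY0 (by rw [h5, zero_kronecker])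
    exact (sub_eq_zero.1 h6).symm
  · intro h
    apply hp0
    have h1 : Φ (p ⊗ₖ 1) = 0 := LinearMap.ker_eq_top.1 h
    rw [← map_zero Φ] at h1
    have h5 := Φ.injective h1
    exact kron_left hY0 (by rw [h5, zero_kronecker])
  · intro f hfS X hX v
    have hfRP := (hS hfS).1
    rw [LinearMap.mem_ker]
    have h1 : Φ (p ⊗ₖ 1) * X = 0 := LinearMap.ext fun v => LinearMap.mem_ker.1 (hX v)
    have h3 : Φ ((1 - p) ⊗ₖ 1) * X = X := by
      rw [sub_kron, map_sub, one_kronecker_one, map_one, sub_mul, one_mul, h1, sub_zero]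
    -- `f₁ (1 - p)`
    have hq : ∃ Q : Matrix I I K, f (Φ ((1 - p) ⊗ₖ 1)) = Φ (Q ⊗ₖ 1) ∧ p * Q = 0 := by
      obtain ⟨Q, hQ⟩ := hf f hfS (1 - p)
      refine ⟨Q, hQ, ?_⟩
      have h4 : p * (1 - p) = 0 := by rw [mul_sub, mul_one, hpp, sub_self]
      rw [hp, diag_iff h2 hN hNt] at h4 ⊢
      obtain ⟨Z', X, X', e1, e2, e3⟩ := h4
      obtain ⟨Z1, hZ1⟩ := hf f hfS Z'
      obtain ⟨X1, hX1⟩ := hf f hfS X
      obtain ⟨X2, hX2⟩ := hf f hfS X'
      refine ⟨Z1, X1, X2, ?_, ?_, ?_⟩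
      · rw [← hadj1, ← hQ, ← hZ1]
        exact ((hS hfS).2 _ _).1 ((hadj1 _ _).2 e1)
      · rw [← hadj1, ← hX1, ← hX2]
        exact ((hS hfS).2 _ _).1 ((hadj1 _ _).2 e2)
      · have hsub : ∀ A B : R K V, f (A - B) = f A - f B := by
          intro A B
          have := hfRP.1 (A - B) B
          rw [sub_add_cancel] at this
          rw [this, add_sub_cancel_right]
        have e4 : Φ ((Z1 * Q) ⊗ₖ (1 : Matrix Y Y K)) = Φ ((X1 - X2) ⊗ₖ 1) := by
          rw [← hmul, ← hZ1, ← hQ, ← hfRP.2, hmul, e3, sub_kron, sub_kron, map_sub Φ, hsub, hX1, hX2, map_sub Φ]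
        exact kron_left hY0 (Φ.injective e4)
    obtain ⟨Q, hQ, hpQ⟩ := hq
    have h5 : f X = Φ (Q ⊗ₖ 1) * f X := by
      rw [← hQ, ← hfRP.2, h3]
    have h6 : Φ (p ⊗ₖ 1) * f X = 0 := by
      rw [h5, ← mul_assoc, hmul, hpQ, zero_kronecker, map_zero, zero_mul]
    show (Φ (p ⊗ₖ 1) * f X) v = 0
    rw [h6]; rfl

end char2

theorem no_alt {K : Type u} [Field K] {m : ℕ} (hm : (m : K) ≠ 0) (h2 : (2 : K) = 0) {N : Matrix (Fin m) (Fin m) K}
    (hN : N.det ≠ 0) (h0 : ∀ i, N i i = 0) (ht : Nᵀ = -N) : False := by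
  have : Nonempty (Fin m) := by
    refine ⟨⟨0, Nat.pos_of_ne_zero ?_⟩⟩
    rintro rfl
    exact hm (by rw [Nat.cast_zero])
  obtain ⟨n, P, P', h1, h1', -⟩ := exists_om hN h0 ht
  have h3 := Matrix.square_of_invertible P P' h1 h1'
  rw [Fintype.card_fin, Fintype.card_prod, Fintype.card_fin, Fintype.card_fin] at h3
  apply hm
  rw [h3, Nat.cast_mul, Nat.cast_ofNat, h2, zero_mul]

/-- **tensor decompositions, symplectic case**, with the parabolic and the orthogonal case as hypotheses -/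
theorem stmtBC4nK_false_of (hPar : Cfsg.Agent.H786.FC.StmtBParK.{u, v} false)
    (hC1 : Cfsg.Agent.H786.FC.StmtBC1K.{u, v} false) : Cfsg.Agent.H786.FC.StmtBC4nK.{u, v} false := by
  intro K _ _ V _ _ _ b hk hbig S hS hsol u' y Φ hu hy hu0 hadj0 hf
  have hb : b.IsSp := hk.2 rfl
  have : Nonempty (Fin u') := ⟨⟨0, by omega⟩⟩
  have : Nonempty (Fin y) := ⟨⟨0, by omega⟩⟩
  obtain ⟨G, hG, hG0, hGt, hGd⟩ := exists_gram b hb Φ
  obtain ⟨N, J, rfl, hN, hJ⟩ := gram_factor G hGd (fun B => by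
    obtain ⟨B', hB'⟩ := hadj0 B
    exact ⟨B', (hG _ _).1 hB'⟩)
  have hN0 : N ≠ 0 := by
    rintro rfl
    exact hN Matrix.det_zero
  have hJ0 : J ≠ 0 := by
    rintro rfl
    exact hJ Matrix.det_zero
  by_cases h2 : (2 : K) = 0
  · have hneg : ∀ M : Matrix (Fin u') (Fin u') K, -M = M := by
      intro M
      ext i j
      rw [Matrix.neg_apply]
      linear_combination -(M i j) * h2
    rcases factor_types hN0 hJ0 hG0 hGt with ⟨hNt, hJd, hJt⟩ | ⟨hJt, hNd, hNt⟩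
    · have hNd : ¬ ∀ i, N i i = 0 := fun h => no_alt hu0 h2 hN h (by rw [hneg, hNt])
      obtain ⟨W, hW0, hW1, hW⟩ := exists_W (by rw [Fintype.card_fin]; exact hu) h2 b S hS Φ N J hG hf hN hNt hNd hJ
      by_cases hTI : ∀ W' : Submodule K V, b.TI W' → (∀ f ∈ S, Stb f W') → W' = ⊥
      · have hadjE : ∀ X : R K V, ∃ X', b.Adj X X' := by
          intro X
          have hGu : IsUnit (N ⊗ₖ J).det := isUnit_iff_ne_zero.2 hGd
          refine ⟨Φ ((N ⊗ₖ J)⁻¹ * ((Φ.symm X)ᵀ * (N ⊗ₖ J))), ?_⟩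
          have h3 := (hG (Φ.symm X) ((N ⊗ₖ J)⁻¹ * ((Φ.symm X)ᵀ * (N ⊗ₖ J)))).2 (by
            rw [← Matrix.mul_assoc (N ⊗ₖ J), Matrix.mul_nonsing_inv _ hGu, Matrix.one_mul])
          rw [AlgEquiv.apply_symm_apply] at h3
          exact h3
        exact hC1 K V b hk hbig S hS hsol hTI ⟨W, hW0, hW1,
          ND_of_rad b W (hTI _ (rad_TI b W) (stb_rad b hb hadjE S hS W hW)), hW⟩
      · push Not at hTI
        obtain ⟨W', h3, h4, h5⟩ := hTI
        exact hPar K V b hk hbig S hS hsol ⟨W', h5, h3, h4⟩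
    · exact absurd (no_alt hu0 h2 hN hNd hNt) not_false
  · rcases factor_types hN0 hJ0 hG0 hGt with ⟨hNt, hJd, hJt⟩ | ⟨hJt, hNd, hNt⟩
    · exact done_odd (by rw [Fintype.card_fin]; exact hu) h2 b S hS Φ N J (fun X X' h => (hG X X').2 h) hf hN hNt hJ hJd hJt
    · obtain ⟨Φ', hadj', hf'⟩ := exists_swap b S hS Φ N J (fun X X' h => (hG X X').2 h) hf
      exact done_odd (by rw [Fintype.card_fin]; exact hy) h2 b S hS Φ' J N hadj' hf' hJ hJt hN hNd hNt

/-- the same from `StmtBPar`, `StmtBC1` -/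
theorem stmtBC4nK_false_of' (hPar : StmtBPar.{u, v}) (hC1 : StmtBC1.{u, v}) :
    Cfsg.Agent.H786.FC.StmtBC4nK.{u, v} false :=
  stmtBC4nK_false_of (fun K _ _ V _ _ _ b _ => hPar K V b) (fun K _ _ V _ _ _ b _ => hC1 K V b)

end Cfsg.Agent.H976.FC
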