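import Cfsg.Agent.H976.FC.Core2

/-!
# S5764, C4: factorization of the Gram matrix (helper976)
-/

set_option autoImplicit false

open Matrix
open scoped Kronecker

namespace Cfsg.Agent.H976.FC

section factor

variable {K : Type*} [Field K] {I Y : Type*} [Fintype I] [DecidableEq I] [Fintype Y] [DecidableEq Y]

/-- the Gram matrix of a form compatible with a tensor decomposition is a Kronecker product -/
theorem gram_factor [Nonempty I] [Nonempty Y] (G : Matrix (I × Y) (I × Y) K) (hG : G.det ≠ 0)
    (h : ∀ B : Matrix I I K, ∃ B' : Matrix I I K,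
      (B ⊗ₖ (1 : Matrix Y Y K))ᵀ * G = G * (B' ⊗ₖ (1 : Matrix Y Y K))) :
    ∃ (N : Matrix I I K) (J : Matrix Y Y K), G = N ⊗ₖ J ∧ N.det ≠ 0 ∧ J.det ≠ 0 := by
  -- blocks
  let blk : Y → Y → Matrix I I K := fun k l => Matrix.of fun i j => G (i, k) (j, l)
  have hblk : ∀ B : Matrix I I K, ∃ B' : Matrix I I K, ∀ k l, Bᵀ * blk k l = blk k l * B' := by
    intro B
    obtain ⟨B', hB'⟩ := h B
    refine ⟨B', fun k l => ?_⟩
    ext i j
    have h1 := congrFun (congrFun hB' (i, k)) (j, l)
    rw [← kroneckerMap_transpose, Matrix.transpose_one, Matrix.mul_apply, Matrix.mul_apply, Fintype.sum_prod_type,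
      Fintype.sum_prod_type] at h1
    rw [Matrix.mul_apply, Matrix.mul_apply]
    have e1 : ∀ x, ∑ y, (Bᵀ ⊗ₖ (1 : Matrix Y Y K)) (i, k) (x, y) * G (x, y) (j, l) = Bᵀ i x * blk k l x j := by
      intro x
      rw [Finset.sum_eq_single k]
      · rw [Matrix.kronecker_apply, Matrix.one_apply_eq, mul_one]; rfl
      · intro y _ hy
        rw [Matrix.kronecker_apply, Matrix.one_apply_ne (Ne.symm hy), mul_zero, zero_mul]
      · intro h2; exact absurd (Finset.mem_univ _) h2
    have e2 : ∀ x, ∑ y, G (i, k) (x, y) * (B' ⊗ₖ (1 : Matrix Y Y K)) (x, y) (j, l) = blk k l i x * B' x j := by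
      intro x
      rw [Finset.sum_eq_single l]
      · rw [Matrix.kronecker_apply, Matrix.one_apply_eq, mul_one]; rfl
      · intro y _ hy
        rw [Matrix.kronecker_apply, Matrix.one_apply_ne hy, mul_zero, mul_zero]
      · intro h2; exact absurd (Finset.mem_univ _) h2
    rw [Finset.sum_congr rfl (fun x _ => e1 x), Finset.sum_congr rfl (fun x _ => e2 x)] at h1
    exact h1
  have hG0 : G ≠ 0 := by
    rintro rfl
    exact hG Matrix.det_zero
  obtain ⟨⟨a, k0⟩, ⟨b, l0⟩, hab⟩ : ∃ x y, G x y ≠ 0 := by
    by_contra hcon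
    push Not at hcon
    exact hG0 (Matrix.ext hcon)
  set N : Matrix I I K := blk k0 l0 with hN
  have hNab : N a b ≠ 0 := hab
  choose F hF using hblk
  -- `N` has a right inverse
  have hNinv : N * ∑ i, F (single a i 1) * single b i (N a b)⁻¹ = 1 := by
    rw [Finset.mul_sum]
    have e1 : ∀ i, N * (F (single a i 1) * single b i (N a b)⁻¹) = single i i 1 := by
      intro i
      rw [← mul_assoc, ← hF, Matrix.transpose_single]
      ext x y
      by_cases hx : x = i
      · subst hx
        by_cases hy : y = x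
        · subst hy
          rw [Matrix.mul_single_apply_same, Matrix.single_mul_apply_same, one_mul, Matrix.single_apply_same,
            mul_inv_cancel₀ hNab]
        · rw [Matrix.mul_single_apply_of_ne _ _ _ _ _ hy, Matrix.single_apply, if_neg (fun h2 => hy h2.2.symm)]
      · rw [Matrix.single_apply, if_neg (fun h2 => hx h2.1.symm)]
        by_cases hy : y = i
        · subst hy
          rw [Matrix.mul_single_apply_same, Matrix.single_mul_apply_of_ne _ _ _ _ _ hx, zero_mul]
        · rw [Matrix.mul_single_apply_of_ne _ _ _ _ _ hy]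
    rw [Finset.sum_congr rfl (fun i _ => e1 i)]
    ext x y
    rw [Matrix.sum_apply, Finset.sum_eq_single x]
    · rw [Matrix.single_apply, Matrix.one_apply]
      by_cases hxy : x = y
      · rw [if_pos ⟨rfl, hxy⟩, if_pos hxy]
      · rw [if_neg (fun h2 => hxy h2.2), if_neg hxy]
    · intro i _ hi
      rw [Matrix.single_apply, if_neg (fun h2 => hi h2.1)]
    · intro h2; exact absurd (Finset.mem_univ _) h2
  have hNu : IsUnit N.det := Matrix.isUnit_det_of_right_inverse hNinv
  have hJ : ∀ k l, ∃ s : K, blk k l = s • N := by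
    intro k l
    obtain ⟨s, hs⟩ := scalar_of_comm (blk k l * N⁻¹) (fun X => by
      have h1 := hF Xᵀ k l
      have h2 := hF Xᵀ k0 l0
      rw [Matrix.transpose_transpose] at h1 h2
      have h3 : F Xᵀ = N⁻¹ * X * N := by
        rw [mul_assoc, h2, ← mul_assoc, Matrix.nonsing_inv_mul _ hNu, one_mul]
      rw [h3] at h1
      rw [← mul_assoc, h1, mul_assoc (blk k l), mul_assoc (blk k l), mul_assoc (N⁻¹ * X), Matrix.mul_nonsing_inv _ hNu,
        mul_one])
    refine ⟨s, ?_⟩
    have h4 : blk k l = blk k l * N⁻¹ * N := by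
      rw [mul_assoc, Matrix.nonsing_inv_mul _ hNu, mul_one]
    rw [h4, hs, smul_mul_assoc, one_mul]
  choose J hJ using hJ
  have hGNJ : G = N ⊗ₖ (Matrix.of J) := by
    ext ⟨i, k⟩ ⟨j, l⟩
    have h1 := congrFun (congrFun (hJ k l) i) j
    rw [Matrix.smul_apply] at h1
    rw [Matrix.kronecker_apply, Matrix.of_apply, mul_comm]
    exact h1
  refine ⟨N, Matrix.of J, hGNJ, hNu.ne_zero, fun h0 => hG ?_⟩
  rw [hGNJ, Matrix.det_kronecker, h0, zero_pow Fintype.card_ne_zero, mul_zero]

/-- symmetric and alternating factor -/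
theorem factor_types {N : Matrix I I K} {J : Matrix Y Y K} (hN : N ≠ 0) (hJ : J ≠ 0)
    (hd : ∀ x, (N ⊗ₖ J) x x = 0) (ht : (N ⊗ₖ J)ᵀ = -(N ⊗ₖ J)) :
    (Nᵀ = N ∧ (∀ k, J k k = 0) ∧ Jᵀ = -J) ∨ (Jᵀ = J ∧ (∀ k, N k k = 0) ∧ Nᵀ = -N) := by
  obtain ⟨a, b, hab⟩ : ∃ x y, N x y ≠ 0 := by
    by_contra hcon
    push Not at hcon
    exact hN (Matrix.ext hcon)
  obtain ⟨k, l, hkl⟩ : ∃ x y, J x y ≠ 0 := by
    by_contra hcon
    push Not at hcon
    exact hJ (Matrix.ext hcon)
  have e : ∀ i j k l, N i j * J k l = -(N j i * J l k) := by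
    intro i j k l
    have h1 := congrFun (congrFun ht (j, l)) (i, k)
    rw [Matrix.transpose_apply, Matrix.neg_apply, Matrix.kronecker_apply, Matrix.kronecker_apply] at h1
    exact h1
  have e0 : ∀ i k, N i i * J k k = 0 := by
    intro i k
    have h1 := hd (i, k)
    rwa [Matrix.kronecker_apply] at h1
  -- `J` is symmetric or skew
  have hJε : ∀ x y, J x y = -(N b a / N a b) * J y x := by
    intro x y
    have h1 := e a b x y
    field_simp
    linear_combination h1
  set ε : K := -(N b a / N a b) with hε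
  have hε2 : ε * ε = 1 := by
    have h1 := hJε k l
    rw [hJε l k, ← mul_assoc] at h1
    have h2 : (ε * ε - 1) * J k l = 0 := by linear_combination -h1
    have h3 := (mul_eq_zero.1 h2).resolve_right hkl
    linear_combination h3
  have hNε : ∀ x y, N x y = -ε * N y x := by
    intro x y
    have h1 := e x y k l
    have h2 := hJε l k
    rw [h2] at h1
    have h3 : (N x y - -ε * N y x) * J k l = 0 := by linear_combination h1
    have h4 := (mul_eq_zero.1 h3).resolve_right hkl
    linear_combination h4
  have hε1 : ε = 1 ∨ ε = -1 := by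
    have h1 : (ε - 1) * (ε + 1) = 0 := by linear_combination hε2
    rcases mul_eq_zero.1 h1 with h | h
    · left; linear_combination h
    · right; linear_combination h
  by_cases h2 : (2 : K) = 0
  · -- characteristic 2
    have hneg : ∀ x : K, -x = x := by
      intro x
      linear_combination -x * h2
    have hε1' : ε = 1 := by
      rcases hε1 with h | h
      · exact h
      · rw [h]; exact hneg 1
    have hNs : ∀ x y, N x y = N y x := by
      intro x y
      rw [hNε x y, hε1', hneg, one_mul]
    have hJs : ∀ x y, J x y = J y x := by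
      intro x y
      rw [hJε x y, hε1', one_mul]
    by_cases hNd : ∀ i, N i i = 0
    · right
      refine ⟨Matrix.ext fun x y => hJs y x, hNd, Matrix.ext fun x y => ?_⟩
      rw [Matrix.neg_apply, hneg]
      exact hNs y x
    · left
      push Not at hNd
      obtain ⟨i, hi⟩ := hNd
      refine ⟨Matrix.ext fun x y => hNs y x, fun k => (mul_eq_zero.1 (e0 i k)).resolve_left hi,
        Matrix.ext fun x y => ?_⟩
      rw [Matrix.neg_apply, hneg]
      exact hJs y x
  · rcases hε1 with h | h
    · right
      refine ⟨Matrix.ext fun x y => ?_, fun k => ?_, Matrix.ext fun x y => ?_⟩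
      · rw [Matrix.transpose_apply, hJε, h, one_mul]
      · have h3 := hNε k k
        rw [h] at h3
        have h4 : (2 : K) * N k k = 0 := by linear_combination h3
        exact (mul_eq_zero.1 h4).resolve_left h2
      · rw [Matrix.transpose_apply, Matrix.neg_apply, hNε, h]; ring
    · left
      refine ⟨Matrix.ext fun x y => ?_, fun k => ?_, Matrix.ext fun x y => ?_⟩
      · rw [Matrix.transpose_apply, hNε, h]; ring
      · have h3 := hJε k k
        rw [h] at h3
        have h4 : (2 : K) * J k k = 0 := by linear_combination h3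
        exact (mul_eq_zero.1 h4).resolve_left h2
      · rw [Matrix.transpose_apply, Matrix.neg_apply, hJε, h]; ring

end factor

end Cfsg.Agent.H976.FC
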