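import Cfsg.Agent.H976.FC.Rigid
import Cfsg.Agent.S0752

/-!
# S5764, C4: normal forms of symmetric and alternating matrices (helper976)
-/

set_option autoImplicit false
set_option linter.unusedSectionVars false

open Matrix
open scoped Kronecker

namespace Cfsg.Agent.H976.FC

section normal

variable {K : Type*} [Field K] {Y : Type*} [Fintype Y] [DecidableEq Y]

/-- change of basis for a matrix seen as a bilinear form -/
theorem exists_basis_change {J : Matrix Y Y K} {α : Type*} [Fintype α] [DecidableEq α]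
    (c : Module.Basis α K (Y → K)) :
    ∃ (P : Matrix Y α K) (P' : Matrix α Y K), P * P' = 1 ∧ P' * P = 1 ∧
      ∀ x y, (Pᵀ * J * P) x y = Matrix.toBilin' J (c x) (c y) := by
  refine ⟨(Pi.basisFun K Y).toMatrix c, c.toMatrix (Pi.basisFun K Y), Module.Basis.toMatrix_mul_toMatrix_flip _ _,
    Module.Basis.toMatrix_mul_toMatrix_flip _ _, fun x y => ?_⟩
  rw [Matrix.toBilin'_apply', Matrix.mul_assoc, Matrix.mul_apply]
  rfl

theorem toBilin'_nondeg {J : Matrix Y Y K} (hJ : J.det ≠ 0) (v : Y → K) (h : ∀ w, Matrix.toBilin' J v w = 0) : v = 0 := by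
  by_contra hv
  apply hJ
  rw [← Matrix.exists_vecMul_eq_zero_iff]
  refine ⟨v, hv, ?_⟩
  funext j
  have h1 := h (Pi.single j 1)
  rw [Matrix.toBilin'_apply', Matrix.dotProduct_mulVec, dotProduct_single, mul_one] at h1
  exact h1

theorem toBilin'_alt {J : Matrix Y Y K} (h0 : ∀ k, J k k = 0) (ht : Jᵀ = -J) : (Matrix.toBilin' J).IsAlt := by
  have hskew : ∀ x y, Matrix.toBilin' J x y = - Matrix.toBilin' J y x := by
    intro x y
    rw [Matrix.toBilin'_apply', Matrix.toBilin'_apply', Matrix.dotProduct_mulVec, dotProduct_comm,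
      ← Matrix.mulVec_transpose, ht, Matrix.neg_mulVec, dotProduct_neg]
  intro x
  have hx : ∀ s : Finset Y, Matrix.toBilin' J (∑ i ∈ s, Pi.single i (x i)) (∑ i ∈ s, Pi.single i (x i)) = 0 := by
    intro s
    induction s using Finset.induction_on with
    | empty => simp
    | insert a s ha ih =>
      rw [Finset.sum_insert ha]
      set u := ∑ i ∈ s, (Pi.single i (x i) : Y → K)
      rw [LinearMap.map_add₂, map_add, map_add, ih, hskew u]
      have h2 : Matrix.toBilin' J (Pi.single a (x a)) (Pi.single a (x a)) = 0 := by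
        rw [Matrix.toBilin'_apply', single_dotProduct, Matrix.mulVec_single, Pi.smul_apply]
        simp [h0]
      rw [h2]
      ring
  have h1 := hx Finset.univ
  rw [Finset.univ_sum_single] at h1
  exact h1

/-- alternating normal form -/
theorem exists_om {J : Matrix Y Y K} [Nonempty Y] (hJ : J.det ≠ 0) (h0 : ∀ k, J k k = 0) (ht : Jᵀ = -J) :
    ∃ (n : ℕ) (P : Matrix Y (Fin 2 × Fin (n + 1)) K) (P' : Matrix (Fin 2 × Fin (n + 1)) Y K),
      P * P' = 1 ∧ P' * P = 1 ∧ Pᵀ * J * P = om K n := by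
  have halt := toBilin'_alt h0 ht
  obtain ⟨m, k, c, h1, h2, h3, h4⟩ := Cfsg.Agent.S0752.result (Matrix.toBilin' J) halt
  have hk : k = 0 := by
    by_contra hk
    have j : Fin k := ⟨0, Nat.pos_of_ne_zero hk⟩
    exact c.ne_zero (Sum.inr j) (toBilin'_nondeg hJ _ (h4 j))
  subst hk
  have hm : m ≠ 0 := by
    rintro rfl
    obtain ⟨y⟩ := ‹Nonempty Y›
    have h5 := c.sum_repr (Pi.single y 1)
    rw [Finset.sum_eq_zero] at h5
    · have := congrFun h5 y
      simp at this
    · rintro ((x | x) | x) _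
      · exact x.elim0
      · exact x.elim0
      · exact x.elim0
  obtain ⟨n, rfl⟩ := Nat.exists_eq_succ_of_ne_zero hm
  let e : (Fin (n + 1) ⊕ Fin (n + 1)) ⊕ Fin 0 ≃ Fin 2 × Fin (n + 1) :=
    { toFun := Sum.elim (Sum.elim (fun i => (0, i)) (fun i => (1, i))) (fun j => j.elim0)
      invFun := fun x => if x.1 = 0 then Sum.inl (Sum.inl x.2) else Sum.inl (Sum.inr x.2)
      left_inv := by
        rintro ((x | x) | x)
        · rfl
        · rfl
        · exact x.elim0
      right_inv := by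
        rintro ⟨s, i⟩
        fin_cases s <;> rfl }
  have he0 : ∀ i, (c.reindex e) (0, i) = c (Sum.inl (Sum.inl i)) := fun i => by rw [Module.Basis.reindex_apply]; rfl
  have he1 : ∀ i, (c.reindex e) (1, i) = c (Sum.inl (Sum.inr i)) := fun i => by rw [Module.Basis.reindex_apply]; rfl
  obtain ⟨P, P', hPP, hP'P, hP⟩ := exists_basis_change (J := J) (c.reindex e)
  refine ⟨n, P, P', hPP, hP'P, ?_⟩
  ext ⟨s, i⟩ ⟨t, j⟩
  rw [hP, om, Matrix.kronecker_apply]
  fin_cases s <;> fin_cases t
  · show Matrix.toBilin' J ((c.reindex e) (0, i)) ((c.reindex e) (0, j)) = 0 * _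
    rw [he0, he0, h2, zero_mul]
  · show Matrix.toBilin' J ((c.reindex e) (0, i)) ((c.reindex e) (1, j)) = 1 * _
    rw [he0, he1, h1, one_mul, Matrix.one_apply]
  · show Matrix.toBilin' J ((c.reindex e) (1, i)) ((c.reindex e) (0, j)) = (-1) * _
    rw [he0, he1, ← halt.neg_eq, h1, Matrix.one_apply]
    by_cases hij : i = j
    · subst hij; simp
    · rw [if_neg hij, if_neg (Ne.symm hij)]; ring
  · show Matrix.toBilin' J ((c.reindex e) (1, i)) ((c.reindex e) (1, j)) = 0 * _
    rw [he1, he1, h3, zero_mul]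

/-- symmetric normal form, odd characteristic -/
theorem exists_diag {N : Matrix Y Y K} (h2 : (2 : K) ≠ 0) (hN : N.det ≠ 0) (ht : Nᵀ = N) :
    ∃ (Q : Matrix Y (Fin (Module.finrank K (Y → K))) K) (Q' : Matrix (Fin (Module.finrank K (Y → K))) Y K)
      (d : Fin (Module.finrank K (Y → K)) → K),
      Q * Q' = 1 ∧ Q' * Q = 1 ∧ (∀ i, d i ≠ 0) ∧ Qᵀ * N * Q = diagonal d := by
  have : Invertible (2 : K) := invertibleOfNonzero h2
  have hsymm : LinearMap.IsSymm (Matrix.toBilin' N) := by
    constructor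
    intro x y
    show Matrix.toBilin' N x y = Matrix.toBilin' N y x
    rw [Matrix.toBilin'_apply', Matrix.toBilin'_apply', Matrix.dotProduct_mulVec, dotProduct_comm,
      ← Matrix.mulVec_transpose, ht]
  obtain ⟨c, hc⟩ := LinearMap.BilinForm.exists_orthogonal_basis hsymm
  obtain ⟨Q, Q', hQQ, hQ'Q, hQ⟩ := exists_basis_change (J := N) c
  refine ⟨Q, Q', fun i => Matrix.toBilin' N (c i) (c i), hQQ, hQ'Q, ?_, ?_⟩
  · intro i hi
    apply c.ne_zero i
    apply toBilin'_nondeg hN
    intro w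
    rw [← c.sum_repr w, map_sum]
    apply Finset.sum_eq_zero
    intro j _
    rw [map_smul]
    by_cases hij : i = j
    · subst hij
      have hi' : Matrix.toBilin' N (c i) (c i) = 0 := hi
      rw [hi', smul_zero]
    · have := hc hij
      rw [show Matrix.toBilin' N (c i) (c j) = 0 from this, smul_zero]
  · ext i j
    rw [hQ]
    by_cases hij : i = j
    · subst hij
      rw [Matrix.diagonal_apply_eq]
    · rw [Matrix.diagonal_apply_ne _ hij]
      exact hc hij

theorem exists_diag' {N : Matrix Y Y K} [Nonempty Y] (h2 : (2 : K) ≠ 0) (hN : N.det ≠ 0) (ht : Nᵀ = N) :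
    ∃ (m : ℕ) (Q : Matrix Y (Fin (m + 1)) K) (Q' : Matrix (Fin (m + 1)) Y K) (d : Fin (m + 1) → K),
      m + 1 = Fintype.card Y ∧ Q * Q' = 1 ∧ Q' * Q = 1 ∧ (∀ i, d i ≠ 0) ∧ Qᵀ * N * Q = diagonal d := by
  have h := exists_diag h2 hN ht
  have hcard : Module.finrank K (Y → K) = Fintype.card Y := Module.finrank_fintype_fun_eq_card K
  have hpos : 0 < Fintype.card Y := Fintype.card_pos
  obtain ⟨m, hm⟩ : ∃ m, Module.finrank K (Y → K) = m + 1 := ⟨Fintype.card Y - 1, by omega⟩
  rw [hm] at h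
  obtain ⟨Q, Q', d, h1⟩ := h
  exact ⟨m, Q, Q', d, by omega, h1⟩

end normal

end Cfsg.Agent.H976.FC
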