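import Cfsg.Agent.H976.FC.Gram
import Cfsg.Agent.H976.FC.Factor
import Cfsg.Agent.H976.FC.Normal

/-!
# S5764, C4: assembly (helper976)
-/

set_option autoImplicit false
set_option linter.unusedSectionVars false

open Matrix
open scoped Kronecker

namespace Cfsg.Agent.H976.FC

open Cfsg.Agent.H198.FC

universe u v

section change

variable {K : Type u} [Field K]

/-- conjugation by a pair of inverse rectangular matrices -/
def cjm {α β : Type*} [Fintype α] [DecidableEq α] [Fintype β] [DecidableEq β] (A : Matrix α β K) (A' : Matrix β α K)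
    (h1 : A * A' = 1) (h2 : A' * A = 1) : Matrix β β K ≃ₐ[K] Matrix α α K where
  toFun X := A * X * A'
  invFun X := A' * X * A
  left_inv X := by
    show A' * (A * X * A') * A = X
    calc A' * (A * X * A') * A = (A' * A) * X * (A' * A) := by simp only [Matrix.mul_assoc]
      _ = X := by rw [h2, Matrix.one_mul, Matrix.mul_one]
  right_inv X := by
    show A * (A' * X * A) * A' = X
    calc A * (A' * X * A) * A' = (A * A') * X * (A * A') := by simp only [Matrix.mul_assoc]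
      _ = X := by rw [h1, Matrix.one_mul, Matrix.mul_one]
  map_mul' X Y := by
    show A * (X * Y) * A' = (A * X * A') * (A * Y * A')
    calc A * (X * Y) * A' = A * X * (1 : Matrix β β K) * Y * A' := by rw [Matrix.mul_one]; simp only [Matrix.mul_assoc]
      _ = A * X * (A' * A) * Y * A' := by rw [h2]
      _ = (A * X * A') * (A * Y * A') := by simp only [Matrix.mul_assoc]
  map_add' X Y := by
    show A * (X + Y) * A' = A * X * A' + A * Y * A'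
    rw [Matrix.mul_add, Matrix.add_mul]
  commutes' r := by
    show A * (algebraMap K (Matrix β β K) r) * A' = algebraMap K (Matrix α α K) r
    rw [Algebra.algebraMap_eq_smul_one, Algebra.algebraMap_eq_smul_one, Matrix.mul_smul, Matrix.mul_one, Matrix.smul_mul, h1]

variable {V : Type v} [AddCommGroup V] [Module K V]

/-- change of basis -/
theorem exists_change {I Y I' Y' : Type} [Fintype I] [DecidableEq I] [Fintype Y] [DecidableEq Y] [Fintype I'] [DecidableEq I']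
    [Fintype Y'] [DecidableEq Y'] (b : Cl K V) (S : Subgroup (Equiv.Perm (R K V)))
    (Φ : Matrix (I × Y) (I × Y) K ≃ₐ[K] R K V) (N : Matrix I I K) (J : Matrix Y Y K)
    (hadj : ∀ X X', Xᵀ * (N ⊗ₖ J) = (N ⊗ₖ J) * X' → b.Adj (Φ X) (Φ X'))
    (hf : ∀ f ∈ S, ∀ B : Matrix I I K, ∃ B' : Matrix I I K, f (Φ (B ⊗ₖ 1)) = Φ (B' ⊗ₖ 1))
    (Q : Matrix I I' K) (Q' : Matrix I' I K) (P : Matrix Y Y' K) (P' : Matrix Y' Y K)
    (h1 : Q * Q' = 1) (h2 : Q' * Q = 1) (h3 : P * P' = 1) (h4 : P' * P = 1) :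
    ∃ Φ' : Matrix (I' × Y') (I' × Y') K ≃ₐ[K] R K V,
      (∀ X X', Xᵀ * ((Qᵀ * N * Q) ⊗ₖ (Pᵀ * J * P)) = ((Qᵀ * N * Q) ⊗ₖ (Pᵀ * J * P)) * X' → b.Adj (Φ' X) (Φ' X')) ∧
      ∀ f ∈ S, ∀ B : Matrix I' I' K, ∃ B' : Matrix I' I' K, f (Φ' (B ⊗ₖ 1)) = Φ' (B' ⊗ₖ 1) := by
  have hA1 : (Q ⊗ₖ P) * (Q' ⊗ₖ P') = 1 := by rw [← mul_kronecker_mul, h1, h3, one_kronecker_one]
  have hA2 : (Q' ⊗ₖ P') * (Q ⊗ₖ P) = 1 := by rw [← mul_kronecker_mul, h2, h4, one_kronecker_one]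
  have hG : (Qᵀ * N * Q) ⊗ₖ (Pᵀ * J * P) = (Q ⊗ₖ P)ᵀ * (N ⊗ₖ J) * (Q ⊗ₖ P) := by
    rw [← kroneckerMap_transpose, mul_kronecker_mul, mul_kronecker_mul]
  set A := Q ⊗ₖ P
  set A' := Q' ⊗ₖ P'
  set G := N ⊗ₖ J
  refine ⟨(cjm A A' hA1 hA2).trans Φ, ?_, ?_⟩
  · intro X X' h
    rw [hG] at h
    show b.Adj (Φ (A * X * A')) (Φ (A * X' * A'))
    apply hadj
    have hA1t : A'ᵀ * Aᵀ = 1 := by rw [← Matrix.transpose_mul, hA1, Matrix.transpose_one]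
    calc (A * X * A')ᵀ * G = A'ᵀ * (Xᵀ * (Aᵀ * G * (1 : Matrix (I × Y) (I × Y) K))) := by
          rw [Matrix.transpose_mul, Matrix.transpose_mul, Matrix.mul_one]; simp only [Matrix.mul_assoc]
      _ = A'ᵀ * (Xᵀ * (Aᵀ * G * (A * A'))) := by rw [hA1]
      _ = A'ᵀ * (Xᵀ * (Aᵀ * G * A)) * A' := by simp only [Matrix.mul_assoc]
      _ = A'ᵀ * (Aᵀ * G * A * X') * A' := by rw [h]
      _ = (A'ᵀ * Aᵀ) * G * (A * X' * A') := by simp only [Matrix.mul_assoc]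
      _ = G * (A * X' * A') := by rw [hA1t, Matrix.one_mul]
  · intro f hfS B
    obtain ⟨B', hB'⟩ := hf f hfS (Q * B * Q')
    refine ⟨Q' * B' * Q, ?_⟩
    have e1 : ∀ B : Matrix I' I' K, A * (B ⊗ₖ (1 : Matrix Y' Y' K)) * A' = (Q * B * Q') ⊗ₖ (1 : Matrix Y Y K) := by
      intro B
      rw [← mul_kronecker_mul, ← mul_kronecker_mul, Matrix.mul_one, h3]
    show f (Φ (A * (B ⊗ₖ (1 : Matrix Y' Y' K)) * A')) = Φ (A * ((Q' * B' * Q) ⊗ₖ (1 : Matrix Y' Y' K)) * A')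
    rw [e1, e1, hB']
    congr 2
    calc B' = (1 : Matrix I I K) * B' * (1 : Matrix I I K) := by rw [Matrix.one_mul, Matrix.mul_one]
      _ = (Q * Q') * B' * (Q * Q') := by rw [h1]
      _ = Q * (Q' * B' * Q) * Q' := by simp only [Matrix.mul_assoc]

/-- exchange of the two factors -/
theorem exists_swap [Finite K] {I Y : Type} [Fintype I] [DecidableEq I] [Fintype Y] [DecidableEq Y] [Nonempty I] [Nonempty Y]
    (b : Cl K V) (S : Subgroup (Equiv.Perm (R K V))) (hS : S ≤ RB b)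
    (Φ : Matrix (I × Y) (I × Y) K ≃ₐ[K] R K V) (N : Matrix I I K) (J : Matrix Y Y K)
    (hadj : ∀ X X', Xᵀ * (N ⊗ₖ J) = (N ⊗ₖ J) * X' → b.Adj (Φ X) (Φ X'))
    (hf : ∀ f ∈ S, ∀ B : Matrix I I K, ∃ B' : Matrix I I K, f (Φ (B ⊗ₖ 1)) = Φ (B' ⊗ₖ 1)) :
    ∃ Φ' : Matrix (Y × I) (Y × I) K ≃ₐ[K] R K V,
      (∀ X X', Xᵀ * (J ⊗ₖ N) = (J ⊗ₖ N) * X' → b.Adj (Φ' X) (Φ' X')) ∧
      ∀ f ∈ S, ∀ B : Matrix Y Y K, ∃ B' : Matrix Y Y K, f (Φ' (B ⊗ₖ 1)) = Φ' (B' ⊗ₖ 1) := by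
  let e : Matrix (Y × I) (Y × I) K ≃ₐ[K] Matrix (I × Y) (I × Y) K :=
    Matrix.reindexAlgEquiv K K (Equiv.prodComm Y I)
  have he : ∀ (B : Matrix Y Y K) (C : Matrix I I K), e (B ⊗ₖ C) = C ⊗ₖ B := by
    intro B C
    ext ⟨i, k⟩ ⟨j, l⟩
    show (B ⊗ₖ C) (k, i) (l, j) = _
    rw [Matrix.kronecker_apply, Matrix.kronecker_apply, mul_comm]
  have het : ∀ X, (e X)ᵀ = e Xᵀ := fun X => rfl
  refine ⟨e.trans Φ, ?_, ?_⟩
  · intro X X' h
    show b.Adj (Φ (e X)) (Φ (e X'))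
    apply hadj
    rw [het, ← he, ← map_mul, ← map_mul, h]
  · intro f hfS B
    have hfRP := (hS hfS).1
    let f0 : R K V ≃+* R K V := { f with map_mul' := hfRP.2, map_add' := hfRP.1 }
    let F := Φ.toRingEquiv.trans (f0.trans Φ.toRingEquiv.symm)
    have hF : ∀ X, F X = Φ.symm (f (Φ X)) := fun X => rfl
    obtain ⟨f1, hf1⟩ := exists_f1 F (fun B => by
      obtain ⟨B', hB'⟩ := hf f hfS B
      exact ⟨B', by rw [hF, hB', AlgEquiv.symm_apply_apply]⟩)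
    obtain ⟨f2, hf2⟩ := exists_f2 F f1 hf1
    refine ⟨f2 B, ?_⟩
    show f (Φ (e (B ⊗ₖ 1))) = Φ (e (f2 B ⊗ₖ 1))
    rw [he, he, ← hf2, hF, AlgEquiv.apply_symm_apply]

end change

section odd

variable {K : Type u} [Field K] {V : Type v} [AddCommGroup V] [Module K V]

theorem exists_gen' [Finite K] : ∃ γ : K, γ ≠ 0 ∧ Subring.closure {γ} = ⊤ := by
  obtain ⟨g, hg⟩ := IsCyclic.exists_generator (α := Kˣ)
  refine ⟨(g : K), g.ne_zero, ?_⟩
  rw [eq_top_iff]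
  intro x _
  by_cases hx : x = 0
  · rw [hx]; exact Subring.zero_mem _
  · obtain ⟨n, hn⟩ := (isOfFinOrder_of_finite g).mem_powers_iff_mem_zpowers.2 (hg (Units.mk0 x hx))
    have h1 : (g : K) ^ n = x := by
      have h2 := congrArg Units.val hn
      simpa using h2
    rw [← h1]
    have hmem : (g : K) ∈ Subring.closure {(g : K)} := Subring.subset_closure (Set.mem_singleton _)
    exact pow_mem hmem n

theorem skew_kron {I Y : Type} [Fintype I] [DecidableEq I] [Fintype Y] [DecidableEq Y] {B N : Matrix I I K}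
    {h J : Matrix Y Y K} (h1 : Bᵀ * N = N * B) (h2 : hᵀ * J = -(J * h)) :
    (B ⊗ₖ h)ᵀ * (N ⊗ₖ J) = (N ⊗ₖ J) * (-(B ⊗ₖ h)) := by
  rw [← kroneckerMap_transpose, ← mul_kronecker_mul, Matrix.mul_neg, ← mul_kronecker_mul, h1, h2]
  ext ⟨i, k⟩ ⟨j, l⟩
  rw [Matrix.neg_apply, Matrix.kronecker_apply, Matrix.kronecker_apply, Matrix.neg_apply, mul_neg]

/-- odd characteristic -/
theorem done_odd [Finite K] [Module.Finite K V] {I Y : Type} [Fintype I] [DecidableEq I] [Fintype Y] [DecidableEq Y]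
    [Nonempty Y] (hI : 2 ≤ Fintype.card I) (h2 : (2 : K) ≠ 0)
    (b : Cl K V) (S : Subgroup (Equiv.Perm (R K V))) (hS : S ≤ RB b)
    (Φ : Matrix (I × Y) (I × Y) K ≃ₐ[K] R K V) (N : Matrix I I K) (J : Matrix Y Y K)
    (hadj : ∀ X X', Xᵀ * (N ⊗ₖ J) = (N ⊗ₖ J) * X' → b.Adj (Φ X) (Φ X'))
    (hf : ∀ f ∈ S, ∀ B : Matrix I I K, ∃ B' : Matrix I I K, f (Φ (B ⊗ₖ 1)) = Φ (B' ⊗ₖ 1))
    (hN : N.det ≠ 0) (hNt : Nᵀ = N) (hJ : J.det ≠ 0) (hJ0 : ∀ k, J k k = 0) (hJt : Jᵀ = -J) : FiveB b S := by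
  obtain ⟨n, P, P', hPP, hP'P, hP⟩ := exists_om hJ hJ0 hJt
  have : Nonempty I := Fintype.card_pos_iff.1 (by omega)
  obtain ⟨m, Q, Q', d, hm, hQQ, hQ'Q, hd, hQ⟩ := exists_diag' h2 hN hNt
  obtain ⟨Φ', hadj', hf'⟩ := exists_change b S Φ N J hadj hf Q Q' P P' hQQ hQ'Q hPP hP'P
  rw [hQ, hP] at hadj'
  obtain ⟨γ, hγ0, hγ⟩ := exists_gen' (K := K)
  exact fiveB_of_rigid b S hS Φ' hf' (bb d γ) (bb_nonscalar (by omega) hd hγ0) (fun i => by
    rw [← map_neg]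
    apply hadj'
    exact skew_kron (bb_self hd γ i) (hh_skew 1 i)) (rigidA (by omega) h2 hd hγ)

end odd

end Cfsg.Agent.H976.FC
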