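import Cfsg.Agent.H976.FC.Assemble

/-!
# S5764, C4: characteristic 2, symmetric non-alternating factor (helper976)
-/

set_option autoImplicit false
set_option linter.unusedSectionVars false

open Matrix
open scoped Kronecker

namespace Cfsg.Agent.H976.FC

open Cfsg.Agent.H198.FC

universe u v

section mat

variable {K : Type u} [Field K] {I : Type} [Fintype I] [DecidableEq I]

theorem quad_eq (h2 : (2 : K) = 0) {N : Matrix I I K} (hNt : Nᵀ = N) (n : I → K) (hn : ∀ i, n i * n i = N i i)
    (z : I → K) : Matrix.toBilin' N z z = (∑ i, n i * z i) * (∑ i, n i * z i) := by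
  have hsymm : ∀ x y, Matrix.toBilin' N x y = Matrix.toBilin' N y x := by
    intro x y
    rw [Matrix.toBilin'_apply', Matrix.toBilin'_apply', Matrix.dotProduct_mulVec, dotProduct_comm,
      ← Matrix.mulVec_transpose, hNt]
  have hz : ∀ s : Finset I, Matrix.toBilin' N (∑ i ∈ s, Pi.single i (z i)) (∑ i ∈ s, Pi.single i (z i)) =
      (∑ i ∈ s, n i * z i) * (∑ i ∈ s, n i * z i) := by
    intro s
    induction s using Finset.induction_on with
    | empty => simp
    | insert a s ha ih =>
      rw [Finset.sum_insert ha, Finset.sum_insert ha]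
      set u := ∑ i ∈ s, (Pi.single i (z i) : I → K)
      rw [LinearMap.map_add₂, map_add, map_add, ih, hsymm u]
      have h3 : Matrix.toBilin' N (Pi.single a (z a)) (Pi.single a (z a)) = n a * z a * (n a * z a) := by
        rw [Matrix.toBilin'_apply', single_dotProduct, Matrix.mulVec_single, Pi.smul_apply]
        simp only [MulOpposite.smul_eq_mul_unop, MulOpposite.unop_op, Matrix.col_apply, ← hn]
        ring
      rw [h3]
      linear_combination (Matrix.toBilin' N (Pi.single a (z a)) u - n a * z a * ∑ i ∈ s, n i * z i) * h2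
  have h1 := hz Finset.univ
  rw [Finset.univ_sum_single] at h1
  exact h1

theorem exists_p [Finite K] (h2 : (2 : K) = 0) {N : Matrix I I K} (hNt : Nᵀ = N) (hNd : ¬ ∀ i, N i i = 0)
    (hI : 2 ≤ Fintype.card I) :
    ∃ p : Matrix I I K, p * p = p ∧ p ≠ 0 ∧ p ≠ 1 ∧ ∀ Z : Matrix I I K, p * Z = 0 ↔ ∀ j, (Zᵀ * N * Z) j j = 0 := by
  have hch : ringChar K = 2 := CharP.ringChar_of_prime_eq_zero Nat.prime_two (by exact_mod_cast h2)
  have hsq : ∀ i, ∃ n : K, n * n = N i i := by
    intro i
    obtain ⟨n, hn⟩ := FiniteField.isSquare_of_char_two hch (N i i)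
    exact ⟨n, hn.symm⟩
  choose n hn using hsq
  obtain ⟨i0, hi0⟩ : ∃ i0, n i0 ≠ 0 := by
    by_contra hcon
    push Not at hcon
    exact hNd fun i => by rw [← hn, hcon, zero_mul]
  let p : Matrix I I K := Matrix.of fun i j => if i = i0 then (n i0)⁻¹ * n j else 0
  have hpZ : ∀ (Z : Matrix I I K) (i j : I), (p * Z) i j = if i = i0 then (n i0)⁻¹ * ∑ a, n a * Z a j else 0 := by
    intro Z i j
    rw [Matrix.mul_apply]
    by_cases hi : i = i0
    · rw [if_pos hi, Finset.mul_sum]
      apply Finset.sum_congr rfl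
      intro a _
      show (if i = i0 then (n i0)⁻¹ * n a else 0) * _ = _
      rw [if_pos hi, mul_assoc]
    · rw [if_neg hi]
      apply Finset.sum_eq_zero
      intro a _
      show (if i = i0 then (n i0)⁻¹ * n a else 0) * _ = _
      rw [if_neg hi, zero_mul]
  refine ⟨p, ?_, ?_, ?_, ?_⟩
  · ext i j
    rw [hpZ]
    show _ = if i = i0 then (n i0)⁻¹ * n j else 0
    by_cases hi : i = i0
    · rw [if_pos hi, if_pos hi]
      congr 1
      rw [Finset.sum_eq_single i0]
      · show n i0 * (if i0 = i0 then (n i0)⁻¹ * n j else 0) = n j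
        rw [if_pos rfl, ← mul_assoc, mul_inv_cancel₀ hi0, one_mul]
      · intro a _ ha
        show n a * (if a = i0 then (n i0)⁻¹ * n j else 0) = 0
        rw [if_neg ha, mul_zero]
      · intro h; exact absurd (Finset.mem_univ _) h
    · rw [if_neg hi, if_neg hi]
  · intro h
    have h3 := congrFun (congrFun h i0) i0
    have h4 : (if i0 = i0 then (n i0)⁻¹ * n i0 else 0) = (0 : K) := h3
    rw [if_pos rfl, inv_mul_cancel₀ hi0] at h4
    exact one_ne_zero h4
  · intro h
    obtain ⟨j, hj⟩ : ∃ j, j ≠ i0 := by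
      by_contra hcon
      push Not at hcon
      have : Fintype.card I ≤ 1 := Fintype.card_le_one_iff.2 fun a b => by rw [hcon a, hcon b]
      omega
    have h3 := congrFun (congrFun h j) j
    have h4 : (if j = i0 then (n i0)⁻¹ * n j else 0) = (1 : Matrix I I K) j j := h3
    rw [if_neg hj, Matrix.one_apply_eq] at h4
    exact zero_ne_one h4
  · intro Z
    have hq : ∀ j, (Zᵀ * N * Z) j j = (∑ a, n a * Z a j) * (∑ a, n a * Z a j) := by
      intro j
      rw [← quad_eq h2 hNt n hn (fun a => Z a j), Matrix.toBilin'_apply', Matrix.mul_assoc, Matrix.mul_apply]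
      rfl
    constructor
    · intro h j
      have h3 := congrFun (congrFun h i0) j
      rw [hpZ, if_pos rfl] at h3
      have h4 : ∑ a, n a * Z a j = 0 := (mul_eq_zero.1 h3).resolve_left (inv_ne_zero hi0)
      rw [hq, h4, zero_mul]
    · intro h
      ext i j
      rw [hpZ]
      have h3 := h j
      rw [hq] at h3
      rw [mul_self_eq_zero.1 h3, mul_zero]
      split_ifs <;> rfl

/-- characterization of the right ideal by the adjoint -/
theorem diag_iff (h2 : (2 : K) = 0) [LinearOrder I] {N : Matrix I I K} (hN : N.det ≠ 0) (hNt : Nᵀ = N) (Z : Matrix I I K) :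
    (∀ j, (Zᵀ * N * Z) j j = 0) ↔ ∃ Z' X X' : Matrix I I K, Zᵀ * N = N * Z' ∧ Xᵀ * N = N * X' ∧ Z' * Z = X - X' := by
  have hNu : IsUnit N.det := isUnit_iff_ne_zero.2 hN
  constructor
  · intro h
    set A := Zᵀ * N * Z with hA
    have hAt : Aᵀ = A := by
      rw [hA, Matrix.transpose_mul, Matrix.transpose_mul, Matrix.transpose_transpose, hNt, Matrix.mul_assoc]
    let M : Matrix I I K := Matrix.of fun i j => if i < j then A i j else 0
    have hM : A = M - Mᵀ := by
      ext i j
      show A i j = (if i < j then A i j else 0) - (if j < i then A j i else 0)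
      rcases lt_trichotomy i j with hij | hij | hij
      · rw [if_pos hij, if_neg (not_lt.2 hij.le), sub_zero]
      · subst hij
        rw [if_neg (lt_irrefl _), h i, sub_zero]
      · rw [if_neg (not_lt.2 hij.le), if_pos hij, zero_sub]
        have h3 : A j i = A i j := congrFun (congrFun hAt i) j
        rw [h3]
        linear_combination A i j * h2
    have hNit : (N⁻¹)ᵀ = N⁻¹ := by rw [Matrix.transpose_nonsing_inv, hNt]
    refine ⟨N⁻¹ * (Zᵀ * N), N⁻¹ * M, N⁻¹ * Mᵀ, ?_, ?_, ?_⟩
    · rw [← Matrix.mul_assoc N, Matrix.mul_nonsing_inv _ hNu, Matrix.one_mul]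
    · rw [Matrix.transpose_mul, hNit, Matrix.mul_assoc, Matrix.nonsing_inv_mul _ hNu, Matrix.mul_one,
        ← Matrix.mul_assoc, Matrix.mul_nonsing_inv _ hNu, Matrix.one_mul]
    · rw [Matrix.mul_assoc, ← hA, ← Matrix.mul_sub, ← hM]
  · rintro ⟨Z', X, X', h1, h3, h4⟩ j
    have h5 : Zᵀ * N * Z = N * X - (N * X)ᵀ := by
      rw [h1, Matrix.mul_assoc, h4, Matrix.mul_sub, ← h3, Matrix.transpose_mul, hNt]
    rw [h5, Matrix.sub_apply, Matrix.transpose_apply, sub_self]

end mat

end Cfsg.Agent.H976.FC
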