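import Mathlib

/-!
# S5764, C4 (tensor decompositions): the main computation (helper976)

`claim`: let `f` be a ring automorphism of `M_I(K) ⊗ M_Y(K)` preserving both factors (`f1`, `f2`), `Z = B ⊗ h` with `B` not
scalar, `h² = 0`, `h ≠ 0`.  If `x f x⁻¹` (`x = 1 + Z`) preserves the first factor then `f2 h = c h` and `B = c f1(B) + s`.
-/

set_option autoImplicit false

open Matrix
open scoped Kronecker

namespace Cfsg.Agent.H976.FC

section core

variable {K : Type*} [Field K] {I Y : Type*} [Fintype I] [DecidableEq I] [Fintype Y] [DecidableEq Y]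

/-- a matrix commuting with all matrices is scalar -/
theorem scalar_of_comm (C : Matrix I I K) (h : ∀ X : Matrix I I K, C * X = X * C) : ∃ s : K, C = s • (1 : Matrix I I K) := by
  obtain ⟨s, hs⟩ := Matrix.mem_range_scalar_iff_commute_single'.2 (fun i j => (h (single i j 1)).symm)
  refine ⟨s, ?_⟩
  rw [← hs, Matrix.scalar_apply, Matrix.smul_one_eq_diagonal]

omit [Fintype I] [DecidableEq I] [Fintype Y] [DecidableEq Y] in
theorem kron_dep {D E : Matrix I I K} {h k : Matrix Y Y K} (heq : D ⊗ₖ h = E ⊗ₖ k) (hE : E ≠ 0) : ∃ c : K, k = c • h := by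
  obtain ⟨i, j, hij⟩ : ∃ i j, E i j ≠ 0 := by
    by_contra hcon
    push Not at hcon
    exact hE (by ext i j; exact hcon i j)
  refine ⟨D i j / E i j, ?_⟩
  ext a b
  have h1 := congrFun (congrFun heq (i, a)) (j, b)
  simp only [Matrix.kronecker_apply] at h1
  rw [Matrix.smul_apply, smul_eq_mul, div_mul_eq_mul_div, h1]
  field_simp

omit [Fintype I] [DecidableEq I] [Fintype Y] [DecidableEq Y] in
theorem kron_left {D E : Matrix I I K} {h : Matrix Y Y K} (hh : h ≠ 0) (heq : D ⊗ₖ h = E ⊗ₖ h) : D = E := by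
  obtain ⟨a, b, hab⟩ : ∃ i j, h i j ≠ 0 := by
    by_contra hcon
    push Not at hcon
    exact hh (by ext i j; exact hcon i j)
  ext i j
  have h1 := congrFun (congrFun heq (i, a)) (j, b)
  simp only [Matrix.kronecker_apply] at h1
  exact mul_right_cancel₀ hab h1

omit [Fintype I] [DecidableEq I] [Fintype Y] [DecidableEq Y] in
theorem kron_right {B : Matrix I I K} {h k : Matrix Y Y K} (hB : B ≠ 0) (heq : B ⊗ₖ h = B ⊗ₖ k) : h = k := by
  obtain ⟨a, b, hab⟩ : ∃ i j, B i j ≠ 0 := by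
    by_contra hcon
    push Not at hcon
    exact hB (by ext i j; exact hcon i j)
  ext i j
  have h1 := congrFun (congrFun heq (a, i)) (b, j)
  simp only [Matrix.kronecker_apply] at h1
  exact mul_left_cancel₀ hab h1

/-- the centralizer of the first factor is the second factor -/
theorem mem_second [Nonempty I] (X : Matrix (I × Y) (I × Y) K)
    (h : ∀ B : Matrix I I K, X * (B ⊗ₖ (1 : Matrix Y Y K)) = (B ⊗ₖ (1 : Matrix Y Y K)) * X) :
    ∃ C : Matrix Y Y K, X = (1 : Matrix I I K) ⊗ₖ C := by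
  obtain ⟨i0⟩ := ‹Nonempty I›
  refine ⟨Matrix.of fun k l => X (i0, k) (i0, l), ?_⟩
  ext ⟨a, k⟩ ⟨i, l⟩
  have h1 := congrFun (congrFun (h (single i i0 1)) (a, k)) (i0, l)
  simp only [Matrix.mul_apply, Fintype.sum_prod_type, Matrix.kronecker_apply, Matrix.single_apply, Matrix.one_apply] at h1
  rw [Matrix.kronecker_apply, Matrix.one_apply, Matrix.of_apply]
  rw [Finset.sum_eq_single i, Finset.sum_eq_single l, Finset.sum_eq_single i0, Finset.sum_eq_single k] at h1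
  · simp only [if_true, and_self, mul_one] at h1
    rw [h1]
    by_cases hia : i = a
    · subst hia; simp
    · rw [if_neg (fun h2 => hia h2.1), if_neg (fun h2 => hia h2.symm)]
  · intro c _ hc; rw [if_neg (fun h2 : k = c => hc h2.symm)]; ring
  · intro h2; exact absurd (Finset.mem_univ _) h2
  · intro c _ hc
    apply Finset.sum_eq_zero
    intro d _
    rw [if_neg (fun h2 : i = a ∧ i0 = c => hc h2.2.symm)]; ring
  · intro h2; exact absurd (Finset.mem_univ _) h2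
  · intro c _ hc; rw [if_neg (fun h2 : c = l => hc h2)]; ring
  · intro h2; exact absurd (Finset.mem_univ _) h2
  · intro c _ hc
    apply Finset.sum_eq_zero
    intro d _
    simp [hc.symm]
  · intro h2; exact absurd (Finset.mem_univ _) h2

/-- **The claim.** -/
theorem claim (f : Matrix (I × Y) (I × Y) K ≃+* Matrix (I × Y) (I × Y) K)
    (f1 : Matrix I I K → Matrix I I K) (f2 : Matrix Y Y K → Matrix Y Y K)
    (hf1 : ∀ B, f (B ⊗ₖ 1) = f1 B ⊗ₖ 1) (hf2 : ∀ C, f (1 ⊗ₖ C) = 1 ⊗ₖ f2 C) (hf1s : Function.Surjective f1)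
    (B : Matrix I I K) (h : Matrix Y Y K) (hB : ∀ s : K, B ≠ s • (1 : Matrix I I K)) (hh : h * h = 0) (hh0 : h ≠ 0)
    (hx : ∀ X : Matrix I I K, ∃ X' : Matrix I I K,
      (1 + B ⊗ₖ h) * f ((1 - B ⊗ₖ h) * (X ⊗ₖ 1) * (1 + B ⊗ₖ h)) * (1 - B ⊗ₖ h) = X' ⊗ₖ 1) :
    ∃ c s : K, c ≠ 0 ∧ f2 h = c • h ∧ B = c • f1 B + s • (1 : Matrix I I K) := by
  -- `Y` and `I` are non-empty
  have hB0 : B ≠ 0 := by rw [← zero_smul K (1 : Matrix I I K)]; exact hB 0
  have hI0 : (1 : Matrix I I K) ≠ 0 := by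
    intro h1
    apply hB0
    rw [← Matrix.mul_one B, h1, Matrix.mul_zero]
  have hY0 : (1 : Matrix Y Y K) ≠ 0 := by
    intro h1
    apply hh0
    rw [← Matrix.mul_one h, h1, Matrix.mul_zero]
  -- `f2` and `f1` on the relevant elements
  set h' := f2 h with hh'
  set B' := f1 B with hB'
  have hfZ : f (B ⊗ₖ h) = B' ⊗ₖ h' := by
    have h1 : B ⊗ₖ h = (B ⊗ₖ (1 : Matrix Y Y K)) * ((1 : Matrix I I K) ⊗ₖ h) := by
      rw [← mul_kronecker_mul, Matrix.mul_one, Matrix.one_mul]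
    rw [h1, map_mul, hf1, hf2, ← mul_kronecker_mul, Matrix.mul_one, Matrix.one_mul]
  have hh'2 : h' * h' = 0 := by
    have h1 : (1 : Matrix I I K) ⊗ₖ (h' * h') = (1 : Matrix I I K) ⊗ₖ (0 : Matrix Y Y K) := by
      have h2 : ((1 : Matrix I I K) ⊗ₖ h') * ((1 : Matrix I I K) ⊗ₖ h') = 0 := by
        rw [hh', ← hf2, ← map_mul, ← mul_kronecker_mul, hh, kronecker_zero, map_zero]
      rw [← mul_kronecker_mul, Matrix.one_mul] at h2
      rw [h2, kronecker_zero]
    exact kron_right hI0 h1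
  have hh'0 : h' ≠ 0 := by
    intro h1
    apply hh0
    have h2 : f ((1 : Matrix I I K) ⊗ₖ h) = 0 := by rw [hf2, ← hh', h1, kronecker_zero]
    rw [map_eq_zero_iff f f.injective] at h2
    exact kron_right hI0 (by rw [h2, kronecker_zero])
  have hB's : ∀ s : K, B' ≠ s • (1 : Matrix I I K) := by
    intro s hs
    obtain ⟨t, ht⟩ := scalar_of_comm B (fun X => by
      have h1 : f ((B * X) ⊗ₖ (1 : Matrix Y Y K)) = f ((X * B) ⊗ₖ (1 : Matrix Y Y K)) := by
        have h2 : ∀ P Q : Matrix I I K, (P * Q) ⊗ₖ (1 : Matrix Y Y K) = (P ⊗ₖ (1 : Matrix Y Y K)) * (Q ⊗ₖ (1 : Matrix Y Y K)) := by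
          intro P Q; rw [← mul_kronecker_mul, Matrix.one_mul]
        rw [h2, h2, map_mul, map_mul, hf1 B, ← hB', hs, hf1 X, smul_kronecker, one_kronecker_one]
        simp
      exact kron_left hY0 (f.injective h1))
    exact hB t ht
  -- the element `m`
  set Z := B ⊗ₖ h with hZ
  set Z' := B' ⊗ₖ h' with hZ'
  have hZ2 : Z * Z = 0 := by rw [hZ, ← mul_kronecker_mul, hh, kronecker_zero]
  have hZ'2 : Z' * Z' = 0 := by rw [hZ', ← mul_kronecker_mul, hh'2, kronecker_zero]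
  have hm1 : (1 + Z') * (1 - Z) * ((1 + Z) * (1 - Z')) = 1 := by
    have h1 : (1 - Z) * (1 + Z) = 1 := by
      have : (1 - Z) * (1 + Z) = 1 - Z * Z := by noncomm_ring
      rw [this, hZ2, sub_zero]
    have h2 : (1 + Z') * (1 - Z') = 1 := by
      have : (1 + Z') * (1 - Z') = 1 - Z' * Z' := by noncomm_ring
      rw [this, hZ'2, sub_zero]
    calc (1 + Z') * (1 - Z) * ((1 + Z) * (1 - Z')) = (1 + Z') * ((1 - Z) * (1 + Z)) * (1 - Z') := by noncomm_ring
      _ = 1 := by rw [h1, mul_one, h2]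
  set m := (1 + Z) * (1 - Z') with hm
  have hmX : ∀ W : Matrix I I K, ∃ W' : Matrix I I K, m * (W ⊗ₖ (1 : Matrix Y Y K)) = (W' ⊗ₖ (1 : Matrix Y Y K)) * m := by
    intro W
    obtain ⟨X, rfl⟩ := hf1s W
    obtain ⟨X', hX'⟩ := hx X
    refine ⟨X', ?_⟩
    rw [← hX', map_mul, map_mul, map_add, map_sub, map_one, hfZ, ← hf1 X]
    calc m * f (X ⊗ₖ 1) = m * f (X ⊗ₖ 1) * ((1 + Z') * (1 - Z) * m) := by rw [hm1, mul_one]
      _ = _ := by rw [hm]; noncomm_ring
  -- first step: `h h' = 0`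
  have hhm : ((1 : Matrix I I K) ⊗ₖ h) * m = (1 : Matrix I I K) ⊗ₖ h - B' ⊗ₖ (h * h') := by
    have h1 : ((1 : Matrix I I K) ⊗ₖ h) * Z = 0 := by
      rw [hZ, ← mul_kronecker_mul, hh, kronecker_zero]
    have h2 : ((1 : Matrix I I K) ⊗ₖ h) * Z' = B' ⊗ₖ (h * h') := by
      rw [hZ', ← mul_kronecker_mul, Matrix.one_mul]
    rw [hm, ← mul_assoc, mul_add, mul_one, h1, add_zero, mul_sub, mul_one, h2]
  have hstep : ∀ W : Matrix I I K, ∃ W' : Matrix I I K, m * (W ⊗ₖ (1 : Matrix Y Y K)) = (W' ⊗ₖ (1 : Matrix Y Y K)) * m ∧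
      (W - W') ⊗ₖ h = (B' * W - W' * B') ⊗ₖ (h * h') := by
    intro W
    obtain ⟨W', hW'⟩ := hmX W
    refine ⟨W', hW', ?_⟩
    have h0 : ((1 : Matrix I I K) ⊗ₖ h) * (W' ⊗ₖ (1 : Matrix Y Y K)) =
        (W' ⊗ₖ (1 : Matrix Y Y K)) * ((1 : Matrix I I K) ⊗ₖ h) := by
      rw [← mul_kronecker_mul, ← mul_kronecker_mul, Matrix.one_mul, Matrix.mul_one, Matrix.one_mul, Matrix.mul_one]
    have h1 : ((1 : Matrix I I K) ⊗ₖ h) * m * (W ⊗ₖ (1 : Matrix Y Y K)) =
        (W' ⊗ₖ (1 : Matrix Y Y K)) * (((1 : Matrix I I K) ⊗ₖ h) * m) := by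
      rw [mul_assoc, hW', ← mul_assoc, h0, mul_assoc]
    rw [hhm, sub_mul, mul_sub, ← mul_kronecker_mul, ← mul_kronecker_mul, ← mul_kronecker_mul, ← mul_kronecker_mul,
      Matrix.one_mul, Matrix.mul_one, Matrix.mul_one, Matrix.mul_one, Matrix.one_mul, Matrix.one_mul] at h1
    have e1 : (W - W') ⊗ₖ h = W ⊗ₖ h - W' ⊗ₖ h := by
      ext ⟨i, k⟩ ⟨j, l⟩
      simp only [Matrix.kronecker_apply, Matrix.sub_apply]; ring
    have e2 : (B' * W - W' * B') ⊗ₖ (h * h') = (B' * W) ⊗ₖ (h * h') - (W' * B') ⊗ₖ (h * h') := by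
      ext ⟨i, k⟩ ⟨j, l⟩
      simp only [Matrix.kronecker_apply, Matrix.sub_apply]; ring
    rw [e1, e2]
    rw [sub_eq_sub_iff_add_eq_add] at h1 ⊢
    rw [h1]; abel
  have hhh' : h * h' = 0 := by
    by_cases hall : ∀ W W' : Matrix I I K, (W - W') ⊗ₖ h = (B' * W - W' * B') ⊗ₖ (h * h') → B' * W - W' * B' = 0
    · exfalso
      obtain ⟨s, hs⟩ := scalar_of_comm B' (fun W => by
        obtain ⟨W', _, hW'⟩ := hstep W
        have h1 := hall W W' hW'
        rw [h1] at hW'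
        have h2 : W - W' = 0 := kron_left hh0 (by rw [hW', zero_kronecker, zero_kronecker])
        rw [sub_eq_zero] at h1 h2
        rw [h1, h2])
      exact hB's s hs
    · push Not at hall
      obtain ⟨W, W', h1, h2⟩ := hall
      obtain ⟨c, hc⟩ := kron_dep h1 h2
      have h3 : c • (h * h') = 0 := by
        have h4 : (c • h) * h' = (h * h') * h' := by rw [hc]
        rw [smul_mul_assoc, mul_assoc, hh'2, mul_zero] at h4
        exact h4
      rcases smul_eq_zero.1 h3 with h4 | h4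
      · rw [hc, h4, zero_smul]
      · exact h4
  -- `m` commutes with the first factor
  have hcomm : ∀ W : Matrix I I K, m * (W ⊗ₖ (1 : Matrix Y Y K)) = (W ⊗ₖ (1 : Matrix Y Y K)) * m := by
    intro W
    obtain ⟨W', hW', h1⟩ := hstep W
    rw [hhh', kronecker_zero] at h1
    have h2 : W - W' = 0 := kron_left hh0 (by rw [h1, zero_kronecker])
    rw [sub_eq_zero] at h2
    rw [hW', ← h2]
  have hm' : m = 1 + Z - Z' := by
    have h1 : Z * Z' = 0 := by rw [hZ, hZ', ← mul_kronecker_mul, hhh', kronecker_zero]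
    rw [hm, mul_sub, mul_one, add_mul, one_mul, h1, add_zero]
  have hfin : ∀ W : Matrix I I K, (B * W - W * B) ⊗ₖ h = (B' * W - W * B') ⊗ₖ h' := by
    intro W
    have h1 := hcomm W
    rw [hm', sub_mul, add_mul, one_mul, mul_sub, mul_add, mul_one, hZ, hZ', ← mul_kronecker_mul, ← mul_kronecker_mul,
      ← mul_kronecker_mul, ← mul_kronecker_mul, Matrix.mul_one, Matrix.mul_one, Matrix.one_mul, Matrix.one_mul] at h1
    have e1 : (B * W - W * B) ⊗ₖ h = (B * W) ⊗ₖ h - (W * B) ⊗ₖ h := by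
      ext ⟨i, k⟩ ⟨j, l⟩
      simp only [Matrix.kronecker_apply, Matrix.sub_apply]; ring
    have e2 : (B' * W - W * B') ⊗ₖ h' = (B' * W) ⊗ₖ h' - (W * B') ⊗ₖ h' := by
      ext ⟨i, k⟩ ⟨j, l⟩
      simp only [Matrix.kronecker_apply, Matrix.sub_apply]; ring
    rw [e1, e2, sub_eq_sub_iff_add_eq_add]
    rw [sub_eq_sub_iff_add_eq_add] at h1
    have h2 : W ⊗ₖ (1 : Matrix Y Y K) + ((B * W) ⊗ₖ h + (W * B') ⊗ₖ h') =
        W ⊗ₖ (1 : Matrix Y Y K) + ((B' * W) ⊗ₖ h' + (W * B) ⊗ₖ h) := by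
      rw [← add_assoc, h1]; abel
    exact add_left_cancel h2
  obtain ⟨W0, hW0⟩ : ∃ W : Matrix I I K, B' * W - W * B' ≠ 0 := by
    by_contra hcon
    push Not at hcon
    obtain ⟨s, hs⟩ := scalar_of_comm B' (fun W => sub_eq_zero.1 (hcon W))
    exact hB's s hs
  obtain ⟨c, hc⟩ := kron_dep (hfin W0) hW0
  have hc0 : c ≠ 0 := by
    rintro rfl
    exact hh'0 (by rw [hc, zero_smul])
  obtain ⟨s, hs⟩ := scalar_of_comm (B - c • B') (fun W => by
    have h1 := hfin W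
    rw [hc, kronecker_smul, ← smul_kronecker] at h1
    have h2 := kron_left hh0 h1
    rw [sub_mul, mul_sub, sub_eq_sub_iff_sub_eq_sub, h2, smul_mul_assoc, mul_smul_comm, smul_sub])
  exact ⟨c, s, hc0, hc, by rw [← hs]; abel⟩

end core

end Cfsg.Agent.H976.FC
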