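import Mathlib

/-!
# S5764, C4: generation lemmas (helper976)
-/

set_option autoImplicit false

open Matrix
open scoped Kronecker

namespace Cfsg.Agent.H976.FC

section gen

variable {K : Type*} [Field K]

/-- `E₀₀` (with coefficients in `A`) and a tridiagonal matrix generate everything (with coefficients in `A`) -/
theorem path_gen {n : ℕ} (A : Subring K) (S : Subring (Matrix (Fin (n + 1)) (Fin (n + 1)) K))
    (T : Matrix (Fin (n + 1)) (Fin (n + 1)) K) (hT0 : ∀ i j : Fin (n + 1), T i j ≠ 0 → i.val + 1 = j.val ∨ j.val + 1 = i.val)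
    (hT1 : ∀ i j : Fin (n + 1), (i.val + 1 = j.val ∨ j.val + 1 = i.val) → T i j ≠ 0 ∧ T i j ∈ A ∧ (T i j)⁻¹ ∈ A)
    (hA : ∀ a ∈ A, single 0 0 a ∈ S) (hTS : T ∈ S) : ∀ i j, ∀ a ∈ A, single i j a ∈ S := by
  -- first column
  have hcol : ∀ k : ℕ, ∀ i : Fin (n + 1), i.val ≤ k → ∀ a ∈ A, single i 0 a ∈ S := by
    intro k
    induction k with
    | zero =>
      intro i hi a ha
      have : i = 0 := Fin.ext (by simpa using hi)
      rw [this]; exact hA a ha
    | succ k ih =>
      intro i hi a ha
      rcases Nat.lt_or_ge i.val (k + 1) with h1 | h1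
      · exact ih i (by omega) a ha
      have hik : i.val = k + 1 := by omega
      have hkn : k < n + 1 := by have := i.2; omega
      set j : Fin (n + 1) := ⟨k, hkn⟩ with hj
      obtain ⟨h2, h3, h4⟩ := hT1 i j (Or.inr (by rw [hj, hik]))
      -- `T * single j 0 c`
      have hprod : ∀ c : K, T * single j (0 : Fin (n + 1)) c = ∑ l, single l (0 : Fin (n + 1)) (T l j * c) := by
        intro c
        ext x y
        rw [Matrix.sum_apply, Matrix.mul_apply]
        simp only [Matrix.single_apply]
        rw [Finset.sum_eq_single j, Finset.sum_eq_single x]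
        · by_cases hy : 0 = y <;> simp [hy]
        · intro l _ hl; rw [if_neg (fun h => hl h.1)]
        · intro h; exact absurd (Finset.mem_univ _) h
        · intro l _ hl; rw [if_neg (fun h => hl h.1.symm), mul_zero]
        · intro h; exact absurd (Finset.mem_univ _) h
      have h5 : (∑ l, single l 0 (T l j * ((T i j)⁻¹ * a))) ∈ S := by
        have h5' := S.mul_mem hTS (ih j (by rw [hj]) ((T i j)⁻¹ * a) (A.mul_mem h4 ha))
        convert h5' using 1
        exact (hprod _).symm
      rw [← Finset.add_sum_erase _ _ (Finset.mem_univ i)] at h5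
      have h6 : ∑ l ∈ Finset.univ.erase i, single l 0 (T l j * ((T i j)⁻¹ * a)) ∈ S := by
        apply S.sum_mem
        intro l hl
        have hli := Finset.ne_of_mem_erase hl
        by_cases h7 : T l j = 0
        · rw [h7, zero_mul, Matrix.single_zero]; exact S.zero_mem
        · have h8 : l.val ≤ k := by
            rcases hT0 l j h7 with h9 | h9
            · rw [hj] at h9; simp at h9; omega
            · exfalso; apply hli; apply Fin.ext; rw [hj] at h9; simp at h9; omega
          apply ih l h8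
          exact A.mul_mem (hT1 l j (hT0 l j h7)).2.1 (A.mul_mem h4 ha)
      have h7 := S.sub_mem h5 h6
      rw [add_sub_cancel_right, ← mul_assoc, mul_inv_cancel₀ h2, one_mul] at h7
      exact h7
  have hrow : ∀ k : ℕ, ∀ i : Fin (n + 1), i.val ≤ k → ∀ a ∈ A, single 0 i a ∈ S := by
    intro k
    induction k with
    | zero =>
      intro i hi a ha
      have : i = 0 := Fin.ext (by simpa using hi)
      rw [this]; exact hA a ha
    | succ k ih =>
      intro i hi a ha
      rcases Nat.lt_or_ge i.val (k + 1) with h1 | h1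
      · exact ih i (by omega) a ha
      have hik : i.val = k + 1 := by omega
      have hkn : k < n + 1 := by have := i.2; omega
      set j : Fin (n + 1) := ⟨k, hkn⟩ with hj
      obtain ⟨h2, h3, h4⟩ := hT1 j i (Or.inl (by rw [hj, hik]))
      have hprod : ∀ c : K, single (0 : Fin (n + 1)) j c * T = ∑ l, single (0 : Fin (n + 1)) l (c * T j l) := by
        intro c
        ext x y
        rw [Matrix.sum_apply, Matrix.mul_apply]
        simp only [Matrix.single_apply]
        rw [Finset.sum_eq_single j, Finset.sum_eq_single y]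
        · by_cases hy : 0 = x <;> simp [hy]
        · intro l _ hl; rw [if_neg (fun h => hl h.2)]
        · intro h; exact absurd (Finset.mem_univ _) h
        · intro l _ hl; rw [if_neg (fun h => hl h.2.symm), zero_mul]
        · intro h; exact absurd (Finset.mem_univ _) h
      have h5 : (∑ l, single 0 l (a * (T j i)⁻¹ * T j l)) ∈ S := by
        have h5' := S.mul_mem (ih j (by rw [hj]) (a * (T j i)⁻¹) (A.mul_mem ha h4)) hTS
        convert h5' using 1
        exact (hprod _).symm
      rw [← Finset.add_sum_erase _ _ (Finset.mem_univ i)] at h5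
      have h6 : ∑ l ∈ Finset.univ.erase i, single 0 l (a * (T j i)⁻¹ * T j l) ∈ S := by
        apply S.sum_mem
        intro l hl
        have hli := Finset.ne_of_mem_erase hl
        by_cases h7 : T j l = 0
        · rw [h7, mul_zero, Matrix.single_zero]; exact S.zero_mem
        · have h8 : l.val ≤ k := by
            rcases hT0 j l h7 with h9 | h9
            · exfalso; apply hli; apply Fin.ext; rw [hj] at h9; simp at h9; omega
            · rw [hj] at h9; simp at h9; omega
          apply ih l h8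
          exact A.mul_mem (A.mul_mem ha h4) (hT1 j l (hT0 j l h7)).2.1
      have h7 := S.sub_mem h5 h6
      rw [add_sub_cancel_right, mul_assoc, inv_mul_cancel₀ h2, mul_one] at h7
      exact h7
  intro i j a ha
  have h1 := S.mul_mem (hcol i.val i le_rfl a ha) (hrow j.val j le_rfl 1 A.one_mem)
  rw [Matrix.single_mul_single_same, mul_one] at h1
  exact h1

/-- the path matrix -/
def pth (K : Type*) [Field K] (n : ℕ) : Matrix (Fin (n + 1)) (Fin (n + 1)) K :=
  Matrix.of fun i j => if i.val + 1 = j.val ∨ j.val + 1 = i.val then 1 else 0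

/-- the four elements `hᵢ` -/
def hh {n : ℕ} (γ : K) : Fin 4 → Matrix (Fin 2 × Fin (n + 1)) (Fin 2 × Fin (n + 1)) K :=
  ![single 0 1 1 ⊗ₖ 1, single 1 0 1 ⊗ₖ 1, !![1, -1; 1, -1] ⊗ₖ single 0 0 1, single 0 1 1 ⊗ₖ (pth K n + single 0 0 γ)]

theorem pth_transpose (n : ℕ) : (pth K n)ᵀ = pth K n := by
  ext i j
  simp only [Matrix.transpose_apply, pth, Matrix.of_apply]
  congr 1
  exact propext (or_comm)

theorem pth_zero (n : ℕ) : pth K n 0 0 = 0 := by
  simp [pth]

theorem hh_sq {n : ℕ} (γ : K) (i : Fin 4) : hh (n := n) γ i * hh γ i = 0 := by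
  have h01 : (single (0 : Fin 2) (1 : Fin 2) (1 : K)) * single 0 1 1 = 0 :=
    Matrix.single_mul_single_of_ne _ _ _ _ (by decide) _
  have h10 : (single (1 : Fin 2) (0 : Fin 2) (1 : K)) * single 1 0 1 = 0 :=
    Matrix.single_mul_single_of_ne _ _ _ _ (by decide) _
  have ha : (!![1, -1; 1, -1] : Matrix (Fin 2) (Fin 2) K) * !![1, -1; 1, -1] = 0 := by
    ext i j; fin_cases i <;> fin_cases j <;> simp [Matrix.mul_apply, Fin.sum_univ_two]
  fin_cases i
  · show (single 0 1 1 ⊗ₖ 1) * (single 0 1 1 ⊗ₖ 1) = 0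
    rw [← mul_kronecker_mul, h01, zero_kronecker]
  · show (single 1 0 1 ⊗ₖ 1) * (single 1 0 1 ⊗ₖ 1) = 0
    rw [← mul_kronecker_mul, h10, zero_kronecker]
  · show (!![1, -1; 1, -1] ⊗ₖ single 0 0 1) * (!![1, -1; 1, -1] ⊗ₖ single 0 0 1) = 0
    rw [← mul_kronecker_mul, ha, zero_kronecker]
  · show (single 0 1 1 ⊗ₖ (pth K n + single 0 0 γ)) * (single 0 1 1 ⊗ₖ (pth K n + single 0 0 γ)) = 0
    rw [← mul_kronecker_mul, h01, zero_kronecker]

/-- `h₁ h₂ = E₀₀ ⊗ 1` -/
theorem hh01 {n : ℕ} (γ : K) : hh (n := n) γ 0 * hh γ 1 = single 0 0 1 ⊗ₖ 1 := by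
  show (single 0 1 1 ⊗ₖ 1) * (single 1 0 1 ⊗ₖ 1) = _
  rw [← mul_kronecker_mul, Matrix.single_mul_single_same, Matrix.one_mul, mul_one]

theorem hh_q {n : ℕ} (γ : K) : hh (n := n) γ 0 * hh γ 1 * hh γ 2 * (hh γ 0 * hh γ 1) = single 0 0 1 ⊗ₖ single 0 0 1 := by
  rw [hh01]
  show (single 0 0 1 ⊗ₖ 1) * (!![1, -1; 1, -1] ⊗ₖ single 0 0 1) * (single 0 0 1 ⊗ₖ 1) = _
  rw [← mul_kronecker_mul, ← mul_kronecker_mul, Matrix.one_mul, Matrix.mul_one]
  congr 1
  ext i j; fin_cases i <;> fin_cases j <;> simp [Matrix.mul_apply, Matrix.single_apply]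

theorem hh_q' {n : ℕ} (γ : K) : hh (n := n) γ 0 * hh γ 1 * hh γ 2 * hh γ 1 = -(single 0 0 1 ⊗ₖ single 0 0 1) := by
  rw [hh01]
  show (single 0 0 1 ⊗ₖ 1) * (!![1, -1; 1, -1] ⊗ₖ single 0 0 1) * (single 1 0 1 ⊗ₖ 1) = _
  rw [← mul_kronecker_mul, ← mul_kronecker_mul, Matrix.one_mul, Matrix.mul_one]
  have : (single 0 0 1 * !![1, -1; 1, -1] * single 1 0 1 : Matrix (Fin 2) (Fin 2) K) = -single 0 0 1 := by
    ext i j; fin_cases i <;> fin_cases j <;> simp [Matrix.mul_apply, Matrix.single_apply]
  rw [this]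
  ext ⟨i, k⟩ ⟨j, l⟩
  simp only [Matrix.kronecker_apply, Matrix.neg_apply, neg_mul]

theorem hh31 {n : ℕ} (γ : K) : hh (n := n) γ 3 * hh γ 1 = single 0 0 1 ⊗ₖ (pth K n + single 0 0 γ) := by
  show (single 0 1 1 ⊗ₖ (pth K n + single 0 0 γ)) * (single 1 0 1 ⊗ₖ 1) = _
  rw [← mul_kronecker_mul, Matrix.single_mul_single_same, Matrix.mul_one, mul_one]

theorem single_mul_mul_single {n : ℕ} (X : Matrix (Fin (n + 1)) (Fin (n + 1)) K) :
    single 0 0 1 * X * single 0 0 1 = single 0 0 (X 0 0) := by
  ext i j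
  rw [Matrix.mul_apply, Finset.sum_eq_single 0, Matrix.mul_apply, Finset.sum_eq_single 0]
  · simp only [Matrix.single_apply]
    by_cases hi : 0 = i <;> by_cases hj : 0 = j <;> simp [hi, hj]
  · intro k _ hk
    rw [Matrix.single_apply, if_neg (fun h => hk h.2.symm), zero_mul]
  · intro h; exact absurd (Finset.mem_univ _) h
  · intro k _ hk
    rw [Matrix.single_apply (i := (0 : Fin (n + 1))) (j := (0 : Fin (n + 1))) (i' := k), if_neg (fun h => hk h.1.symm), mul_zero]
  · intro h; exact absurd (Finset.mem_univ _) h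

/-- **generation** -/
theorem gen {n : ℕ} (S : Subring (Matrix (Fin 2 × Fin (n + 1)) (Fin 2 × Fin (n + 1)) K)) (γ : K)
    (hS : ∀ i, hh γ i ∈ S) : ∀ x y, ∀ a ∈ Subring.closure {γ}, single x y a ∈ S := by
  have h0 : single 0 0 1 ⊗ₖ 1 ∈ S := by rw [← hh01 (n := n) γ]; exact S.mul_mem (hS 0) (hS 1)
  let S' : Subring (Matrix (Fin (n + 1)) (Fin (n + 1)) K) :=
    { carrier := {X | single (0 : Fin 2) (0 : Fin 2) (1 : K) ⊗ₖ X ∈ S}
      mul_mem' := by
        intro X Y hX hY
        have := S.mul_mem hX hY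
        rw [← mul_kronecker_mul, Matrix.single_mul_single_same, mul_one] at this
        exact this
      one_mem' := h0
      add_mem' := by
        intro X Y hX hY
        have := S.add_mem hX hY
        rw [← kronecker_add] at this
        exact this
      zero_mem' := by
        show _ ⊗ₖ _ ∈ S
        rw [kronecker_zero]; exact S.zero_mem
      neg_mem' := by
        intro X hX
        have := S.neg_mem hX
        have h2 : -(single (0 : Fin 2) (0 : Fin 2) (1 : K) ⊗ₖ X) = single (0 : Fin 2) (0 : Fin 2) (1 : K) ⊗ₖ (-X) := by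
          ext ⟨i, k⟩ ⟨j, l⟩
          simp only [Matrix.kronecker_apply, Matrix.neg_apply, mul_neg]
        rw [h2] at this
        exact this }
  have hmem : ∀ X, X ∈ S' ↔ single (0 : Fin 2) (0 : Fin 2) (1 : K) ⊗ₖ X ∈ S := fun X => Iff.rfl
  have hq : single 0 0 1 ∈ S' := by
    rw [hmem, ← hh_q (n := n) γ]
    exact S.mul_mem (S.mul_mem (S.mul_mem (hS 0) (hS 1)) (hS 2)) (S.mul_mem (hS 0) (hS 1))
  have ht : pth K n + single 0 0 γ ∈ S' := by
    rw [hmem, ← hh31 (n := n) γ]
    exact S.mul_mem (hS 3) (hS 1)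
  have hγ : single 0 0 γ ∈ S' := by
    have := S'.mul_mem (S'.mul_mem hq ht) hq
    rw [single_mul_mul_single, Matrix.add_apply, pth_zero, zero_add, Matrix.single_apply_same] at this
    exact this
  have hp : pth K n ∈ S' := by
    have := S'.sub_mem ht hγ
    rwa [add_sub_cancel_right] at this
  have hA : ∀ a ∈ Subring.closure {γ}, single 0 0 a ∈ S' := by
    intro a ha
    induction ha using Subring.closure_induction with
    | mem x hx => rw [Set.mem_singleton_iff.1 hx]; exact hγ
    | zero => rw [Matrix.single_zero]; exact S'.zero_mem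
    | one => exact hq
    | add x y _ _ hx hy => rw [Matrix.single_add]; exact S'.add_mem hx hy
    | neg x _ hx =>
      have h2 : single 0 0 (-x) = -(single (0 : Fin (n + 1)) (0 : Fin (n + 1)) x) := by
        ext i j
        simp only [Matrix.neg_apply, Matrix.single_apply]
        by_cases h : 0 = i ∧ 0 = j
        · rw [if_pos h, if_pos h]
        · rw [if_neg h, if_neg h, neg_zero]
      rw [h2]; exact S'.neg_mem hx
    | mul x y _ _ hx hy =>
      have := S'.mul_mem hx hy
      rw [Matrix.single_mul_single_same] at this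
      exact this
  have hone : (1 : K) ∈ Subring.closure {γ} := Subring.one_mem _
  have hall := path_gen (Subring.closure {γ}) S' (pth K n) (by
      intro i j hij
      simp only [pth, Matrix.of_apply] at hij
      by_contra hcon
      exact hij (if_neg hcon))
    (by
      intro i j hij
      have h1 : pth K n i j = 1 := by
        simp only [pth, Matrix.of_apply]
        exact if_pos hij
      rw [h1, inv_one]
      exact ⟨one_ne_zero, hone, hone⟩) hA hp
  have h00 : ∀ i j, ∀ a ∈ Subring.closure {γ}, single (0 : Fin 2) (0 : Fin 2) (1 : K) ⊗ₖ single i j a ∈ S :=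
    fun i j a ha => hall i j a ha
  rintro ⟨x, i⟩ ⟨y, j⟩ a ha
  have hx : ∀ x y : Fin 2, single x y (1 : K) ⊗ₖ single i j a ∈ S := by
    intro x y
    fin_cases x <;> fin_cases y
    · exact h00 i j a ha
    · have := S.mul_mem (h00 i j a ha) (hS 0)
      have h2 : (single 0 0 1 ⊗ₖ single i j a) * hh γ 0 = single 0 1 1 ⊗ₖ single i j a := by
        show _ * (single 0 1 1 ⊗ₖ 1) = _
        rw [← mul_kronecker_mul, Matrix.single_mul_single_same, Matrix.mul_one, mul_one]
      rw [h2] at this
      exact this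
    · have := S.mul_mem (hS 1) (h00 i j a ha)
      have h2 : hh γ 1 * (single 0 0 1 ⊗ₖ single i j a) = single 1 0 1 ⊗ₖ single i j a := by
        show (single 1 0 1 ⊗ₖ 1) * _ = _
        rw [← mul_kronecker_mul, Matrix.single_mul_single_same, Matrix.one_mul, mul_one]
      rw [h2] at this
      exact this
    · have := S.mul_mem (S.mul_mem (hS 1) (h00 i j a ha)) (hS 0)
      have h2 : hh γ 1 * (single 0 0 1 ⊗ₖ single i j a) * hh γ 0 = single 1 1 1 ⊗ₖ single i j a := by
        show (single 1 0 1 ⊗ₖ 1) * _ * (single 0 1 1 ⊗ₖ 1) = _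
        rw [← mul_kronecker_mul, ← mul_kronecker_mul, Matrix.single_mul_single_same, Matrix.single_mul_single_same,
          Matrix.one_mul, Matrix.mul_one, mul_one, mul_one]
      rw [h2] at this
      exact this
  have := hx x y
  rw [single_kronecker_single, one_mul] at this
  exact this

end gen

end Cfsg.Agent.H976.FC
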