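import Cfsg.Agent.H976.FC.Core
import Cfsg.Agent.H976.FC.Gen

/-!
# S5764, C4: rigidity in matrix form (helper976)
-/

set_option autoImplicit false

open Matrix
open scoped Kronecker

namespace Cfsg.Agent.H976.FC

section core2

variable {K : Type*} [Field K] {I Y : Type*} [Fintype I] [DecidableEq I] [Fintype Y] [DecidableEq Y]

omit [DecidableEq I] in
theorem kron_mul_left (P Q : Matrix I I K) :
    (P * Q) ⊗ₖ (1 : Matrix Y Y K) = (P ⊗ₖ (1 : Matrix Y Y K)) * (Q ⊗ₖ (1 : Matrix Y Y K)) := by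
  rw [← mul_kronecker_mul, Matrix.one_mul]

omit [DecidableEq Y] in
theorem kron_mul_right (P Q : Matrix Y Y K) :
    (1 : Matrix I I K) ⊗ₖ (P * Q) = ((1 : Matrix I I K) ⊗ₖ P) * ((1 : Matrix I I K) ⊗ₖ Q) := by
  rw [← mul_kronecker_mul, Matrix.one_mul]

theorem kron_split (P : Matrix I I K) (Q : Matrix Y Y K) :
    P ⊗ₖ Q = (P ⊗ₖ (1 : Matrix Y Y K)) * ((1 : Matrix I I K) ⊗ₖ Q) := by
  rw [← mul_kronecker_mul, Matrix.one_mul, Matrix.mul_one]

/-- the induced automorphism of the first factor -/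
theorem exists_f1 [Finite K] [Nonempty Y] (f : Matrix (I × Y) (I × Y) K ≃+* Matrix (I × Y) (I × Y) K)
    (hf : ∀ B : Matrix I I K, ∃ B' : Matrix I I K, f (B ⊗ₖ (1 : Matrix Y Y K)) = B' ⊗ₖ (1 : Matrix Y Y K)) :
    ∃ f1 : Matrix I I K ≃+* Matrix I I K, ∀ B, f (B ⊗ₖ (1 : Matrix Y Y K)) = f1 B ⊗ₖ (1 : Matrix Y Y K) := by
  have hY0 : (1 : Matrix Y Y K) ≠ 0 := one_ne_zero
  choose F hF using hf
  let F1 : Matrix I I K →+* Matrix I I K :=
    { toFun := F
      map_one' := kron_left hY0 (by rw [← hF, one_kronecker_one, map_one])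
      map_zero' := kron_left hY0 (by rw [← hF, zero_kronecker, map_zero])
      map_add' := fun P Q => kron_left hY0 (by rw [← hF, add_kronecker, map_add, hF, hF, add_kronecker])
      map_mul' := fun P Q => kron_left hY0 (by rw [← hF, kron_mul_left, map_mul, hF, hF, ← kron_mul_left]) }
  have hinj : Function.Injective F1 := by
    intro P Q hPQ
    have h1 : f (P ⊗ₖ (1 : Matrix Y Y K)) = f (Q ⊗ₖ (1 : Matrix Y Y K)) := by
      rw [hF, hF]
      have : F P = F Q := hPQ
      rw [this]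
    exact kron_left hY0 (f.injective h1)
  exact ⟨RingEquiv.ofBijective F1 ⟨hinj, Finite.surjective_of_injective hinj⟩, hF⟩

/-- the induced automorphism of the second factor -/
theorem exists_f2 [Finite K] [Nonempty I] (f : Matrix (I × Y) (I × Y) K ≃+* Matrix (I × Y) (I × Y) K)
    (f1 : Matrix I I K ≃+* Matrix I I K) (hf1 : ∀ B, f (B ⊗ₖ (1 : Matrix Y Y K)) = f1 B ⊗ₖ (1 : Matrix Y Y K)) :
    ∃ f2 : Matrix Y Y K ≃+* Matrix Y Y K, ∀ C, f ((1 : Matrix I I K) ⊗ₖ C) = (1 : Matrix I I K) ⊗ₖ f2 C := by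
  have hI0 : (1 : Matrix I I K) ≠ 0 := one_ne_zero
  have hf : ∀ C : Matrix Y Y K, ∃ C' : Matrix Y Y K, f ((1 : Matrix I I K) ⊗ₖ C) = (1 : Matrix I I K) ⊗ₖ C' := by
    intro C
    apply mem_second
    intro B
    obtain ⟨B0, rfl⟩ := f1.surjective B
    rw [← hf1, ← map_mul, ← map_mul, ← mul_kronecker_mul, ← mul_kronecker_mul, Matrix.one_mul, Matrix.mul_one,
      Matrix.one_mul, Matrix.mul_one]
  choose F hF using hf
  let F1 : Matrix Y Y K →+* Matrix Y Y K :=
    { toFun := F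
      map_one' := kron_right hI0 (by rw [← hF, one_kronecker_one, map_one])
      map_zero' := kron_right hI0 (by rw [← hF, kronecker_zero, map_zero])
      map_add' := fun P Q => kron_right hI0 (by rw [← hF, kronecker_add, map_add, hF, hF, kronecker_add])
      map_mul' := fun P Q => kron_right hI0 (by rw [← hF, kron_mul_right, map_mul, hF, hF, ← kron_mul_right]) }
  have hinj : Function.Injective F1 := by
    intro P Q hPQ
    have h1 : f ((1 : Matrix I I K) ⊗ₖ P) = f ((1 : Matrix I I K) ⊗ₖ Q) := by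
      rw [hF, hF]
      have : F P = F Q := hPQ
      rw [this]
    exact kron_right hI0 (f.injective h1)
  exact ⟨RingEquiv.ofBijective F1 ⟨hinj, Finite.surjective_of_injective hinj⟩, hF⟩

/-- if `g (hᵢ) = cᵢ hᵢ` then all `cᵢ = 1` -/
theorem coeff_one {n : ℕ} (g : Matrix (Fin 2 × Fin (n + 1)) (Fin 2 × Fin (n + 1)) K →+*
      Matrix (Fin 2 × Fin (n + 1)) (Fin 2 × Fin (n + 1)) K)
    (c : Fin 4 → K) (hc0 : ∀ i, c i ≠ 0) (hc : ∀ i, g (hh 1 i) = c i • hh 1 i) : ∀ i, c i = 1 := by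
  set q : Matrix (Fin 2 × Fin (n + 1)) (Fin 2 × Fin (n + 1)) K := single 0 0 1 ⊗ₖ single 0 0 1 with hq
  have hq0 : q ≠ 0 := by
    intro h
    have := congrFun (congrFun h (0, 0)) (0, 0)
    rw [hq, Matrix.kronecker_apply, Matrix.single_apply_same, Matrix.single_apply_same] at this
    simp at this
  have hqq : q * q = q := by
    rw [hq, ← mul_kronecker_mul, Matrix.single_mul_single_same, Matrix.single_mul_single_same, mul_one]
  have h1 := hh_q (n := n) (1 : K)
  have h2 := hh_q' (n := n) (1 : K)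
  rw [← hq] at h1 h2
  have g1 : g q = (c 0 * c 1 * c 2 * (c 0 * c 1)) • q := by
    conv_lhs => rw [← h1]
    simp only [map_mul, hc, smul_mul_assoc, mul_smul_comm, smul_smul]
    rw [h1]
    congr 1; ring
  have g2 : g q = (c 0 * c 1 * c 2 * c 1) • q := by
    have h3 : q = -(hh 1 0 * hh 1 1 * hh 1 2 * hh 1 1) := by rw [h2, neg_neg]
    conv_lhs => rw [h3]
    simp only [map_neg, map_mul, hc, smul_mul_assoc, mul_smul_comm, smul_smul]
    rw [h2, smul_neg, neg_neg]
    congr 1; ring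
  have hinj : ∀ a b : K, a • q = b • q → a = b := by
    intro a b hab
    by_contra hne
    have : (a - b) • q = 0 := by rw [sub_smul, hab, sub_self]
    rcases smul_eq_zero.1 this with h | h
    · exact hne (sub_eq_zero.1 h)
    · exact hq0 h
  have e1 := hinj _ _ (g1.symm.trans g2)
  have hc0' : c 0 = 1 := by
    have h3 : c 0 * c 1 * c 2 * c 1 * c 0 = c 0 * c 1 * c 2 * c 1 * 1 := by linear_combination e1
    exact mul_left_cancel₀ (mul_ne_zero (mul_ne_zero (mul_ne_zero (hc0 0) (hc0 1)) (hc0 2)) (hc0 1)) h3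
  -- idempotency
  have e2 : c 0 * c 1 * c 2 * c 1 = 1 := by
    have h3 : g q * g q = g q := by rw [← map_mul, hqq]
    rw [g2, smul_mul_assoc, mul_smul_comm, hqq, smul_smul] at h3
    have h4 := hinj _ _ h3
    have h5 : c 0 * c 1 * c 2 * c 1 ≠ 0 := mul_ne_zero (mul_ne_zero (mul_ne_zero (hc0 0) (hc0 1)) (hc0 2)) (hc0 1)
    exact mul_left_cancel₀ h5 (h4.trans (mul_one _).symm)
  have gq : g q = q := by rw [g2, e2, one_smul]
  -- `h₁ h₂` is idempotent
  have hc1 : c 1 = 1 := by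
    have h3 := hh01 (n := n) (1 : K)
    have h4 : (hh (n := n) (1 : K) 0 * hh 1 1) * (hh 1 0 * hh 1 1) = hh 1 0 * hh 1 1 := by
      rw [h3, ← mul_kronecker_mul, Matrix.single_mul_single_same, mul_one, Matrix.one_mul]
    have h5 : hh (n := n) (1 : K) 0 * hh 1 1 ≠ 0 := by
      rw [h3]
      intro h
      have := congrFun (congrFun h (0, 0)) (0, 0)
      rw [Matrix.kronecker_apply, Matrix.single_apply_same, Matrix.one_apply_eq] at this
      simp at this
    have h6 : g (hh 1 0 * hh 1 1) = c 1 • (hh 1 0 * hh 1 1) := by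
      rw [map_mul, hc, hc, smul_mul_assoc, mul_smul_comm, smul_smul, hc0', one_mul]
    have h7 : g (hh 1 0 * hh 1 1) * g (hh 1 0 * hh 1 1) = g (hh 1 0 * hh 1 1) := by rw [← map_mul, h4]
    rw [h6, smul_mul_assoc, mul_smul_comm, h4, smul_smul] at h7
    have h8 : (c 1 * c 1 - c 1) • (hh (n := n) (1 : K) 0 * hh 1 1) = 0 := by rw [sub_smul, h7, sub_self]
    rcases smul_eq_zero.1 h8 with h9 | h9
    · have : c 1 * c 1 = c 1 * 1 := by rw [mul_one]; exact sub_eq_zero.1 h9
      exact mul_left_cancel₀ (hc0 1) this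
    · exact absurd h9 h5
  have hc2 : c 2 = 1 := by
    rw [hc0', hc1] at e2
    simpa using e2
  have hc3 : c 3 = 1 := by
    have h3 : q * (hh 1 3 * hh 1 1) * q = q := by
      rw [hh31, hq, ← mul_kronecker_mul, ← mul_kronecker_mul, Matrix.single_mul_single_same,
        Matrix.single_mul_single_same, single_mul_mul_single, Matrix.add_apply, pth_zero, zero_add,
        Matrix.single_apply_same, mul_one, mul_one]
    have h4 : g (q * (hh 1 3 * hh 1 1) * q) = c 3 • q := by
      rw [map_mul, map_mul, map_mul, hc, hc, gq, hc1, one_smul, smul_mul_assoc, mul_smul_comm, smul_mul_assoc, h3]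
    rw [h3, gq] at h4
    exact (hinj _ _ (by rw [one_smul]; exact h4)).symm
  intro i
  fin_cases i
  · exact hc0'
  · exact hc1
  · exact hc2
  · exact hc3

omit [Fintype I] [DecidableEq I] in
/-- decomposition into blocks -/
theorem sum_blocks (X : Matrix (I × Y) (I × Y) K) :
    X = ∑ k : Y, ∑ l : Y, (Matrix.of fun i j => X (i, k) (j, l)) ⊗ₖ single k l 1 := by
  ext ⟨i, a⟩ ⟨j, b⟩
  simp only [Matrix.sum_apply, Matrix.kronecker_apply, Matrix.of_apply, Matrix.single_apply]
  rw [Finset.sum_eq_single a, Finset.sum_eq_single b]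
  · simp
  · intro l _ hl; rw [if_neg (fun h => hl h.2), mul_zero]
  · intro h; exact absurd (Finset.mem_univ _) h
  · intro k _ hk
    apply Finset.sum_eq_zero
    intro l _
    rw [if_neg (fun h => hk h.1), mul_zero]
  · intro h; exact absurd (Finset.mem_univ _) h

/-- **rigidity** -/
theorem core_id [Finite K] [Nonempty I] {n : ℕ}
    (f : Matrix (I × (Fin 2 × Fin (n + 1))) (I × (Fin 2 × Fin (n + 1))) K ≃+*
      Matrix (I × (Fin 2 × Fin (n + 1))) (I × (Fin 2 × Fin (n + 1))) K)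
    (hf : ∀ B : Matrix I I K, ∃ B' : Matrix I I K, f (B ⊗ₖ 1) = B' ⊗ₖ 1)
    (Bs : Fin 4 → Matrix I I K) (hBs : ∀ i, ∀ s : K, Bs i ≠ s • (1 : Matrix I I K))
    (hx : ∀ i, ∀ X : Matrix I I K, ∃ X' : Matrix I I K,
      (1 + Bs i ⊗ₖ hh 1 i) * f ((1 - Bs i ⊗ₖ hh 1 i) * (X ⊗ₖ 1) * (1 + Bs i ⊗ₖ hh 1 i)) * (1 - Bs i ⊗ₖ hh 1 i) = X' ⊗ₖ 1)
    (rigid : ∀ g : Matrix I I K ≃+* Matrix I I K, (∀ i, ∃ s : K, g (Bs i) = Bs i - s • (1 : Matrix I I K)) →
      ∀ X, g X = X) : ∀ X, f X = X := by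
  obtain ⟨f1, hf1⟩ := exists_f1 f hf
  obtain ⟨f2, hf2⟩ := exists_f2 f f1 hf1
  have hh0 : ∀ i, hh (n := n) (1 : K) i ≠ 0 := by
    have h1 := hh_q (n := n) (1 : K)
    have hq0 : (single 0 0 1 ⊗ₖ single 0 0 1 : Matrix (Fin 2 × Fin (n + 1)) (Fin 2 × Fin (n + 1)) K) ≠ 0 := by
      intro h
      have := congrFun (congrFun h (0, 0)) (0, 0)
      rw [Matrix.kronecker_apply, Matrix.single_apply_same, Matrix.single_apply_same] at this
      simp at this
    intro i h
    fin_cases i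
    · have h' : hh (n := n) (1 : K) 0 = 0 := h
      rw [h', zero_mul, zero_mul, zero_mul] at h1
      exact hq0 h1.symm
    · have h' : hh (n := n) (1 : K) 1 = 0 := h
      rw [h', mul_zero, zero_mul, zero_mul] at h1
      exact hq0 h1.symm
    · have h' : hh (n := n) (1 : K) 2 = 0 := h
      rw [h', mul_zero, zero_mul] at h1
      exact hq0 h1.symm
    · have h' : hh (n := n) (1 : K) 3 = 0 := h
      have h3 := hh31 (n := n) (1 : K)
      rw [h', zero_mul] at h3
      have := congrFun (congrFun h3 (0, 0)) (0, 0)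
      rw [Matrix.kronecker_apply, Matrix.single_apply_same, Matrix.add_apply, pth_zero, Matrix.single_apply_same] at this
      simp at this
  have hcl := fun i => claim f f1 f2 hf1 hf2 f1.surjective (Bs i) (hh 1 i) (hBs i) (hh_sq 1 i) (hh0 i) (hx i)
  choose c s hc0 hc hB using hcl
  have hc1 := coeff_one f2.toRingHom c hc0 hc
  have hfix2 : ∀ k l, f2 (single k l 1) = single k l 1 := by
    intro k l
    have := gen (RingHom.eqLocus f2.toRingHom (RingHom.id _)) (1 : K) (fun i => by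
      show f2 (hh 1 i) = hh 1 i
      rw [hc i, hc1 i, one_smul]) k l 1 (Subring.one_mem _)
    exact this
  have hfix1 := rigid f1 (fun i => ⟨s i, by
    have h1 := hB i
    rw [hc1 i, one_smul] at h1
    conv_rhs => rw [h1]
    rw [add_sub_cancel_right]⟩)
  intro X
  rw [sum_blocks X, map_sum]
  apply Finset.sum_congr rfl
  intro k _
  rw [map_sum]
  apply Finset.sum_congr rfl
  intro l _
  rw [kron_split, map_mul, hf1, hf2, hfix1, hfix2]

end core2

end Cfsg.Agent.H976.FC
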