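import Cfsg.Agent.H976.FC.Lift

/-!
# S5764, C4: Gram matrices (helper976)
-/

set_option autoImplicit false

open Matrix
open scoped Kronecker

namespace Cfsg.Agent.H976.FC

open Cfsg.Agent.H198.FC

universe u v

section gram

variable {K : Type u} [Field K] {V : Type v} [AddCommGroup V] [Module K V]

theorem Cl_sum_left {α : Type*} (b : Cl K V) (s : Finset α) (f : α → V) (w : V) :
    b.B (∑ i ∈ s, f i) w = ∑ i ∈ s, b.B (f i) w := by
  classical
  induction s using Finset.induction_on with
  | empty => simp [Cl_zero_left]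
  | insert a s ha ih => rw [Finset.sum_insert ha, Finset.sum_insert ha, b.add_left, ih]

theorem Cl_sum_right {α : Type*} (b : Cl K V) (s : Finset α) (f : α → V) (w : V) :
    b.B w (∑ i ∈ s, f i) = ∑ i ∈ s, b.B w (f i) := by
  classical
  induction s using Finset.induction_on with
  | empty => simp [Cl_zero_right]
  | insert a s ha ih => rw [Finset.sum_insert ha, Finset.sum_insert ha, b.add_right, ih]

variable {ι : Type} [Fintype ι] [DecidableEq ι]

/-- the basis belonging to an isomorphism of algebras -/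
theorem exists_vec [Nonempty ι] (Φ : Matrix ι ι K ≃ₐ[K] R K V) :
    ∃ v : ι → V, (∀ X i, Φ X (v i) = ∑ j, X j i • v j) ∧ (∀ c : ι → K, ∑ i, c i • v i = 0 → c = 0) ∧
      ∀ w, ∃ c : ι → K, w = ∑ i, c i • v i := by
  obtain ⟨i0⟩ := ‹Nonempty ι›
  have he : Φ (single i0 i0 1) ≠ 0 := by
    intro h
    rw [← map_zero Φ] at h
    have := congrFun (congrFun (Φ.injective h) i0) i0
    simp at this
  obtain ⟨w, hw⟩ : ∃ w, Φ (single i0 i0 1) w ≠ 0 := by
    by_contra h
    push Not at h
    exact he (LinearMap.ext h)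
  have hmul : ∀ X Y : Matrix ι ι K, ∀ u, Φ (X * Y) u = Φ X (Φ Y u) := by
    intro X Y u; rw [map_mul]; rfl
  have hX : ∀ X i, Φ X (Φ (single i i0 1) w) = ∑ j, X j i • Φ (single j i0 1) w := by
    intro X i
    rw [← hmul]
    have h1 : X * single i i0 1 = ∑ j, X j i • single j i0 (1 : K) := by
      ext a c
      rw [Matrix.sum_apply]
      by_cases hc : i0 = c
      · subst hc
        rw [Matrix.mul_single_apply_same, mul_one, Finset.sum_eq_single a]
        · rw [Matrix.smul_apply, Matrix.single_apply_same, smul_eq_mul, mul_one]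
        · intro d _ hd
          rw [Matrix.smul_apply, Matrix.single_apply, if_neg (fun h => hd h.1), smul_zero]
        · intro h; exact absurd (Finset.mem_univ _) h
      · rw [Matrix.mul_single_apply_of_ne _ _ _ _ _ (Ne.symm hc)]
        symm
        apply Finset.sum_eq_zero
        intro d _
        rw [Matrix.smul_apply, Matrix.single_apply, if_neg (fun h => hc h.2), smul_zero]
    rw [h1, map_sum, LinearMap.sum_apply]
    apply Finset.sum_congr rfl
    intro j _
    rw [map_smul, LinearMap.smul_apply]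
  refine ⟨fun i => Φ (single i i0 1) w, hX, ?_, ?_⟩
  · intro c hc
    funext i
    have h1 := congrArg (Φ (single i0 i 1)) hc
    rw [map_zero, map_sum] at h1
    have h2 : ∀ j, Φ (single i0 i 1) (c j • Φ (single j i0 1) w) = if j = i then c i • Φ (single i0 i0 1) w else 0 := by
      intro j
      rw [map_smul, ← hmul]
      by_cases hj : j = i
      · subst hj
        rw [if_pos rfl, Matrix.single_mul_single_same, mul_one]
      · rw [if_neg hj, Matrix.single_mul_single_of_ne _ _ _ _ (Ne.symm hj), map_zero, LinearMap.zero_apply, smul_zero]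
    rw [Finset.sum_congr rfl (fun j _ => h2 j), Finset.sum_ite_eq' Finset.univ i, if_pos (Finset.mem_univ _)] at h1
    exact (smul_eq_zero.1 h1).resolve_right hw
  · intro w'
    obtain ⟨φ, hφ⟩ : ∃ φ : V →ₗ[K] K, φ (Φ (single i0 i0 1) w) = 1 := by
      by_contra hcon
      push Not at hcon
      apply hw
      rw [← Module.forall_dual_apply_eq_zero_iff K]
      intro ψ
      by_contra h0
      apply hcon ((ψ (Φ (single i0 i0 1) w))⁻¹ • ψ)
      rw [LinearMap.smul_apply, smul_eq_mul, inv_mul_cancel₀ h0]
    let T : R K V := (LinearMap.toSpanSingleton K V w').comp φ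
    have hT : T (Φ (single i0 i0 1) w) = w' := by
      show φ _ • w' = w'
      rw [hφ, one_smul]
    refine ⟨fun j => (Φ.symm T) j i0, ?_⟩
    rw [← hX, AlgEquiv.apply_symm_apply, hT]

/-- Gram matrices -/
theorem exists_gram [Nonempty ι] (b : Cl K V) (hb : b.IsSp) (Φ : Matrix ι ι K ≃ₐ[K] R K V) :
    ∃ G : Matrix ι ι K, (∀ X Y, b.Adj (Φ X) (Φ Y) ↔ Xᵀ * G = G * Y) ∧ (∀ i, G i i = 0) ∧ Gᵀ = -G ∧ G.det ≠ 0 := by
  obtain ⟨v, hv, hli, hsp⟩ := exists_vec Φ
  have hτ : ∀ a, b.τ a = a := hb.1
  have hB : ∀ (c d : ι → K) (T T' : R K V), b.B (T (∑ i, c i • v i)) (T' (∑ j, d j • v j)) =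
      ∑ i, ∑ j, c i * (d j * b.B (T (v i)) (T' (v j))) := by
    intro c d T T'
    rw [map_sum, Cl_sum_left]
    apply Finset.sum_congr rfl
    intro i _
    rw [map_sum, Cl_sum_right]
    apply Finset.sum_congr rfl
    intro j _
    rw [map_smul, map_smul, b.smul_left, b.smul_right, hτ]
  refine ⟨Matrix.of fun i j => b.B (v i) (v j), ?_, ?_, ?_, ?_⟩
  · intro X Y
    have h1 : ∀ i j, b.B (Φ X (v i)) (v j) = (Xᵀ * Matrix.of fun i j => b.B (v i) (v j)) i j := by
      intro i j
      rw [hv, Cl_sum_left, Matrix.mul_apply]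
      apply Finset.sum_congr rfl
      intro k _
      rw [b.smul_left]
      rfl
    have h2 : ∀ i j, b.B (v i) (Φ Y (v j)) = ((Matrix.of fun i j => b.B (v i) (v j)) * Y) i j := by
      intro i j
      rw [hv, Cl_sum_right, Matrix.mul_apply]
      apply Finset.sum_congr rfl
      intro k _
      rw [b.smul_right, hτ, mul_comm]
      rfl
    constructor
    · intro h
      ext i j
      rw [← h1, ← h2]
      exact h _ _
    · intro h w w'
      obtain ⟨c, rfl⟩ := hsp w
      obtain ⟨d, rfl⟩ := hsp w'
      have e1 := hB c d (Φ X) 1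
      have e2 := hB c d 1 (Φ Y)
      rw [Module.End.one_apply] at e1 e2
      rw [e1, e2]
      apply Finset.sum_congr rfl
      intro i _
      apply Finset.sum_congr rfl
      intro j _
      rw [Module.End.one_apply, Module.End.one_apply, h1, h2, h]
  · intro i
    exact hb.2 _
  · ext i j
    rw [Matrix.transpose_apply, Matrix.neg_apply]
    show b.B (v j) (v i) = -b.B (v i) (v j)
    have h := hb.2 (v i + v j)
    rw [b.add_left, b.add_right, b.add_right, hb.2, hb.2, zero_add, add_zero] at h
    exact eq_neg_of_add_eq_zero_right h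
  · intro h0
    obtain ⟨c, hc, hc0⟩ := Matrix.exists_vecMul_eq_zero_iff.2 h0
    apply hc
    apply hli
    apply b.nondeg
    intro w
    obtain ⟨d, rfl⟩ := hsp w
    have e1 := hB c d 1 1
    rw [Module.End.one_apply, Module.End.one_apply] at e1
    rw [e1, Finset.sum_comm]
    apply Finset.sum_eq_zero
    intro j _
    have h3 := congrFun hc0 j
    have h4 : ∑ i, c i * (d j * b.B (v i) (v j)) = d j * ∑ i, c i * b.B (v i) (v j) := by
      rw [Finset.mul_sum]
      apply Finset.sum_congr rfl
      intro i _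
      ring
    have h5 : ∑ i, c i * b.B (v i) (v j) = 0 := h3
    simp only [Module.End.one_apply]
    rw [h4, h5, mul_zero]

end gram

end Cfsg.Agent.H976.FC
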