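import Cfsg.Agent.H976.FC.Core2

/-!
# S5764, C4: the matrices `B` (helper976)
-/

set_option autoImplicit false

open Matrix
open scoped Kronecker

namespace Cfsg.Agent.H976.FC

section rigid

variable {K : Type*} [Field K]

theorem exists_gen [Finite K] : ∃ γ : K, Subring.closure {γ} = ⊤ := by
  obtain ⟨g, hg⟩ := IsCyclic.exists_generator (α := Kˣ)
  refine ⟨(g : K), ?_⟩
  rw [eq_top_iff]
  intro x _
  by_cases hx : x = 0
  · rw [hx]; exact Subring.zero_mem _
  · obtain ⟨n, hn⟩ := (isOfFinOrder_of_finite g).mem_powers_iff_mem_zpowers.2 (hg (Units.mk0 x hx))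
    have h1 : (g : K) ^ n = x := by
      have h2 := congrArg Units.val hn
      simpa using h2
    rw [← h1]
    have hmem : (g : K) ∈ Subring.closure {(g : K)} := Subring.subset_closure (Set.mem_singleton _)
    exact pow_mem hmem n

theorem eq_self_of_single {J : Type*} [Fintype J] [DecidableEq J] (g : Matrix J J K →+* Matrix J J K)
    (h : ∀ (x y : J) (a : K), g (single x y a) = single x y a) (X : Matrix J J K) : g X = X := by
  have hX := Matrix.matrix_eq_sum_single X
  have h1 : g (∑ i, ∑ j, single i j (X i j)) = ∑ i, ∑ j, single i j (X i j) := by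
    rw [map_sum]
    apply Finset.sum_congr rfl
    intro i _
    rw [map_sum]
    apply Finset.sum_congr rfl
    intro j _
    exact h i j _
  rw [← hX] at h1
  exact h1

/-- the standard symplectic matrix -/
def om (K : Type*) [Field K] (n : ℕ) : Matrix (Fin 2 × Fin (n + 1)) (Fin 2 × Fin (n + 1)) K :=
  !![0, 1; -1, 0] ⊗ₖ 1

theorem hh_skew {n : ℕ} (γ : K) (i : Fin 4) : (hh (n := n) γ i)ᵀ * om K n = -(om K n * hh γ i) := by
  have key : ∀ (A : Matrix (Fin 2) (Fin 2) K) (S : Matrix (Fin (n + 1)) (Fin (n + 1)) K), Sᵀ = S →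
      Aᵀ * !![0, 1; -1, 0] = -(!![0, 1; -1, 0] * A) → (A ⊗ₖ S)ᵀ * om K n = -(om K n * (A ⊗ₖ S)) := by
    intro A S hS hA
    rw [← kroneckerMap_transpose, om, hS, ← mul_kronecker_mul, ← mul_kronecker_mul, Matrix.mul_one, Matrix.one_mul, hA]
    ext ⟨i, k⟩ ⟨j, l⟩
    simp only [Matrix.kronecker_apply, Matrix.neg_apply, neg_mul]
  have h00 : (single (0 : Fin (n + 1)) (0 : Fin (n + 1)) (1 : K))ᵀ = single 0 0 1 := Matrix.transpose_single _ _ _
  have h00γ : (single (0 : Fin (n + 1)) (0 : Fin (n + 1)) γ)ᵀ = single 0 0 γ := Matrix.transpose_single _ _ _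
  have s01 : single (0 : Fin 2) (1 : Fin 2) (1 : K) = !![0, 1; 0, 0] := by
    ext i j; fin_cases i <;> fin_cases j <;> simp
  have s10 : single (1 : Fin 2) (0 : Fin 2) (1 : K) = !![0, 0; 1, 0] := by
    ext i j; fin_cases i <;> fin_cases j <;> simp
  have e01 : (single (0 : Fin 2) (1 : Fin 2) (1 : K))ᵀ * !![0, 1; -1, 0] = -(!![0, 1; -1, 0] * single 0 1 1) := by
    rw [s01]
    ext i j; fin_cases i <;> fin_cases j <;> simp [Matrix.mul_apply, Fin.sum_univ_two]
  have e10 : (single (1 : Fin 2) (0 : Fin 2) (1 : K))ᵀ * !![0, 1; -1, 0] = -(!![0, 1; -1, 0] * single 1 0 1) := by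
    rw [s10]
    ext i j; fin_cases i <;> fin_cases j <;> simp [Matrix.mul_apply, Fin.sum_univ_two]
  have ea : (!![1, -1; 1, -1] : Matrix (Fin 2) (Fin 2) K)ᵀ * !![0, 1; -1, 0] =
      -(!![0, 1; -1, 0] * !![1, -1; 1, -1]) := by
    ext i j; fin_cases i <;> fin_cases j <;> simp [Matrix.mul_apply, Fin.sum_univ_two]
  fin_cases i
  · exact key _ _ Matrix.transpose_one e01
  · exact key _ _ Matrix.transpose_one e10
  · exact key _ _ h00 ea
  · exact key _ _ (by rw [Matrix.transpose_add, pth_transpose, h00γ]) e01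

/-! ### characteristic two, alternating form -/

theorem hh_nonscalar {n : ℕ} (γ : K) (i : Fin 4) (h0 : hh (n := n) γ i ≠ 0) (s : K) :
    hh (n := n) γ i ≠ s • (1 : Matrix (Fin 2 × Fin (n + 1)) (Fin 2 × Fin (n + 1)) K) := by
  intro h
  have h1 := hh_sq (n := n) γ i
  rw [h, smul_mul_smul_comm, Matrix.one_mul] at h1
  have h2 := congrFun (congrFun h1 (0, 0)) (0, 0)
  rw [Matrix.smul_apply, Matrix.one_apply_eq] at h2
  have h3 : s = 0 := by simpa using h2
  exact h0 (by rw [h, h3, zero_smul])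

theorem hh_ne_zero {n : ℕ} {γ : K} (hγ : γ ≠ 0) (i : Fin 4) : hh (n := n) γ i ≠ 0 := by
  have h1 := hh_q (n := n) γ
  have hq0 : (single 0 0 1 ⊗ₖ single 0 0 1 : Matrix (Fin 2 × Fin (n + 1)) (Fin 2 × Fin (n + 1)) K) ≠ 0 := by
    intro h
    have := congrFun (congrFun h (0, 0)) (0, 0)
    rw [Matrix.kronecker_apply, Matrix.single_apply_same, Matrix.single_apply_same] at this
    simp at this
  intro h
  fin_cases i
  · have h' : hh (n := n) γ 0 = 0 := h
    rw [h', zero_mul, zero_mul, zero_mul] at h1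
    exact hq0 h1.symm
  · have h' : hh (n := n) γ 1 = 0 := h
    rw [h', mul_zero, zero_mul, zero_mul] at h1
    exact hq0 h1.symm
  · have h' : hh (n := n) γ 2 = 0 := h
    rw [h', mul_zero, zero_mul] at h1
    exact hq0 h1.symm
  · have h' : hh (n := n) γ 3 = 0 := h
    have h3 := hh31 (n := n) γ
    rw [h', zero_mul] at h3
    have := congrFun (congrFun h3 (0, 0)) (0, 0)
    rw [Matrix.kronecker_apply, Matrix.single_apply_same, Matrix.add_apply, pth_zero, Matrix.single_apply_same] at this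
    simp at this
    exact hγ this.symm

theorem rigidB {n : ℕ} (h2 : (2 : K) = 0) {γ : K} (hγ : Subring.closure {γ} = ⊤)
    (g : Matrix (Fin 2 × Fin (n + 1)) (Fin 2 × Fin (n + 1)) K ≃+* Matrix (Fin 2 × Fin (n + 1)) (Fin 2 × Fin (n + 1)) K)
    (hg : ∀ i, ∃ s : K, g (hh γ i) = hh γ i - s • (1 : Matrix (Fin 2 × Fin (n + 1)) (Fin 2 × Fin (n + 1)) K)) :
    ∀ X, g X = X := by
  have hfix : ∀ i, g (hh γ i) = hh γ i := by
    intro i
    obtain ⟨s, hs⟩ := hg i
    have h1 : g (hh γ i) * g (hh γ i) = 0 := by rw [← map_mul, hh_sq, map_zero]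
    rw [hs] at h1
    have h3 : (hh (n := n) γ i - s • 1) * (hh γ i - s • 1) =
        hh γ i * hh γ i - (2 : K) • (s • hh γ i) + (s * s) • (1 : Matrix (Fin 2 × Fin (n + 1)) (Fin 2 × Fin (n + 1)) K) := by
      rw [two_smul, sub_mul, mul_sub, mul_sub, smul_mul_assoc, smul_mul_smul_comm, mul_smul_comm]
      simp only [mul_one, one_mul]
      abel
    rw [h3, hh_sq, h2, zero_smul, sub_zero, zero_add] at h1
    have h4 := congrFun (congrFun h1 (0, 0)) (0, 0)
    rw [Matrix.smul_apply, Matrix.one_apply_eq] at h4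
    have h5 : s = 0 := by simpa using h4
    rw [hs, h5, zero_smul, sub_zero]
  apply eq_self_of_single g.toRingHom
  intro x y a
  exact gen (RingHom.eqLocus g.toRingHom (RingHom.id _)) γ hfix x y a (by rw [hγ]; exact Subring.mem_top a)

/-! ### odd characteristic, symmetric form -/

/-- `D⁻¹ J`, `J` the path matrix -/
def tt {n : ℕ} (d : Fin (n + 1) → K) : Matrix (Fin (n + 1)) (Fin (n + 1)) K := Matrix.of fun i j => (d i)⁻¹ * pth K n i j

/-- the four matrices `Bᵢ` -/
def bb {n : ℕ} (d : Fin (n + 1) → K) (γ : K) : Fin 4 → Matrix (Fin (n + 1)) (Fin (n + 1)) K :=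
  ![single 0 0 1, tt d, single 0 0 γ, single 0 0 1]

theorem bb_self {n : ℕ} {d : Fin (n + 1) → K} (hd : ∀ i, d i ≠ 0) (γ : K) (i : Fin 4) :
    (bb d γ i)ᵀ * diagonal d = diagonal d * bb d γ i := by
  have e0 : ∀ c : K, (single (0 : Fin (n + 1)) (0 : Fin (n + 1)) c)ᵀ * diagonal d = diagonal d * single 0 0 c := by
    intro c
    ext i j
    rw [Matrix.mul_diagonal, Matrix.diagonal_mul, Matrix.transpose_apply, Matrix.single_apply, Matrix.single_apply]
    by_cases hi : 0 = i
    · by_cases hj : 0 = j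
      · subst hi; subst hj; simp [mul_comm]
      · simp [hj]
    · simp [hi]
  fin_cases i
  · exact e0 1
  · show (tt d)ᵀ * diagonal d = diagonal d * tt d
    ext i j
    rw [Matrix.mul_diagonal, Matrix.diagonal_mul, Matrix.transpose_apply, tt, Matrix.of_apply, Matrix.of_apply]
    have h1 := congrFun (congrFun (pth_transpose (K := K) n) i) j
    rw [Matrix.transpose_apply] at h1
    rw [h1]
    field_simp [hd i, hd j]
  · exact e0 γ
  · exact e0 1

theorem bb_nonscalar {n : ℕ} (hn : 1 ≤ n) {d : Fin (n + 1) → K} (hd : ∀ i, d i ≠ 0) {γ : K} (hγ : γ ≠ 0) (i : Fin 4)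
    (s : K) : bb d γ i ≠ s • (1 : Matrix (Fin (n + 1)) (Fin (n + 1)) K) := by
  have hlt : 1 < n + 1 := by omega
  have e0 : ∀ c : K, c ≠ 0 → single (0 : Fin (n + 1)) (0 : Fin (n + 1)) c ≠ s • (1 : Matrix (Fin (n + 1)) (Fin (n + 1)) K) := by
    intro c hc h
    have h1 := congrFun (congrFun h 0) 0
    have h2 := congrFun (congrFun h ⟨1, hlt⟩) ⟨1, hlt⟩
    rw [Matrix.single_apply_same, Matrix.smul_apply, Matrix.one_apply_eq] at h1
    rw [Matrix.single_apply, if_neg (fun h3 => by have := congrArg Fin.val h3.1; simp at this), Matrix.smul_apply,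
      Matrix.one_apply_eq] at h2
    exact hc (h1.trans h2.symm)
  fin_cases i
  · exact e0 1 one_ne_zero
  · intro h
    have h' : tt d = s • (1 : Matrix (Fin (n + 1)) (Fin (n + 1)) K) := h
    have h1 := congrFun (congrFun h' 0) ⟨1, hlt⟩
    rw [Matrix.smul_apply, Matrix.one_apply_ne (fun h3 => by have := congrArg Fin.val h3; simp at this), tt,
      Matrix.of_apply, pth, Matrix.of_apply, if_pos (by simp)] at h1
    simp [hd 0] at h1
  · exact e0 γ hγ
  · exact e0 1 one_ne_zero

theorem rigidA {n : ℕ} (hn : 1 ≤ n) (h2 : (2 : K) ≠ 0) {d : Fin (n + 1) → K} (hd : ∀ i, d i ≠ 0) {γ : K}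
    (hγ : Subring.closure {γ} = ⊤)
    (g : Matrix (Fin (n + 1)) (Fin (n + 1)) K ≃+* Matrix (Fin (n + 1)) (Fin (n + 1)) K)
    (hg : ∀ i, ∃ s : K, g (bb d γ i) = bb d γ i - s • (1 : Matrix (Fin (n + 1)) (Fin (n + 1)) K)) : ∀ X, g X = X := by
  have hlt : 1 < n + 1 := by omega
  set o : Fin (n + 1) := ⟨1, hlt⟩ with ho
  have ho0 : (0 : Fin (n + 1)) ≠ o := by
    intro h3; have := congrArg Fin.val h3; simp [ho] at this
  set E : Matrix (Fin (n + 1)) (Fin (n + 1)) K := single 0 0 1 with hE
  have hEE : E * E = E := by rw [hE, Matrix.single_mul_single_same, mul_one]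
  -- `g E = E`
  have hgE : g E = E := by
    obtain ⟨s, hs⟩ := hg 0
    have hs' : g E = E - s • 1 := hs
    have h3 : g E * g E = g E := by rw [← map_mul, hEE]
    rw [hs'] at h3
    have h4 : (E - s • 1) * (E - s • 1) = E - (2 : K) • (s • E) + (s * s) • (1 : Matrix (Fin (n + 1)) (Fin (n + 1)) K) := by
      rw [two_smul, sub_mul, mul_sub, mul_sub, smul_mul_assoc, smul_mul_smul_comm, mul_smul_comm]
      simp only [mul_one, one_mul, hEE]
      abel
    rw [h4] at h3
    have h5 := congrFun (congrFun h3 0) 0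
    have h6 := congrFun (congrFun h3 o) o
    simp only [Matrix.sub_apply, Matrix.add_apply, Matrix.smul_apply, Matrix.one_apply_eq, smul_eq_mul, hE,
      Matrix.single_apply_same, mul_one] at h5
    simp only [Matrix.sub_apply, Matrix.add_apply, Matrix.smul_apply, Matrix.one_apply_eq, smul_eq_mul, hE,
      Matrix.single_apply, mul_one] at h6
    rw [if_neg (fun h => ho0 h.1)] at h6
    have h7 : (2 : K) * s = 0 := by linear_combination -h5 + h6
    have h8 : s = 0 := (mul_eq_zero.1 h7).resolve_left h2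
    rw [hs', h8, zero_smul, sub_zero]
  -- `g T = T`
  have hgT : g (tt d) = tt d := by
    obtain ⟨s, hs⟩ := hg 1
    have hs' : g (tt d) = tt d - s • 1 := hs
    have h0 : E * tt d * E = 0 := by
      rw [hE, single_mul_mul_single, tt, Matrix.of_apply, pth_zero, mul_zero, Matrix.single_zero]
    have h1 : g E * g (tt d) * g E = 0 := by rw [← map_mul, ← map_mul, h0, map_zero]
    rw [hgE, hs', mul_sub, sub_mul, h0, zero_sub, mul_smul_comm, mul_one, smul_mul_assoc, hEE, neg_eq_zero] at h1
    rcases smul_eq_zero.1 h1 with h3 | h3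
    · rw [hs', h3, zero_smul, sub_zero]
    · exfalso
      have := congrFun (congrFun h3 0) 0
      rw [hE, Matrix.single_apply_same] at this
      exact one_ne_zero this
  -- `g (γ E) = γ E`
  have hgγ : g (single 0 0 γ) = single 0 0 γ := by
    obtain ⟨s, hs⟩ := hg 2
    have hs' : g (single 0 0 γ) = single 0 0 γ - s • 1 := hs
    have h0 : single 0 0 γ * E = single (0 : Fin (n + 1)) (0 : Fin (n + 1)) γ := by
      rw [hE, Matrix.single_mul_single_same, mul_one]
    have h1 : g (single 0 0 γ) * g E = g (single 0 0 γ) := by rw [← map_mul, h0]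
    rw [hgE, hs', sub_mul, h0, smul_mul_assoc, one_mul] at h1
    have h3 := congrFun (congrFun h1 o) o
    simp only [Matrix.sub_apply, Matrix.smul_apply, Matrix.one_apply_eq, smul_eq_mul, hE,
      Matrix.single_apply, mul_one] at h3
    rw [if_neg (fun h => ho0 h.1)] at h3
    have h4 : s = 0 := by
      rw [if_neg (fun h => ho0 h.1)] at h3
      linear_combination h3
    rw [hs', h4, zero_smul, sub_zero]
  set S := RingHom.eqLocus g.toRingHom (RingHom.id _) with hS
  have hA : ∀ a ∈ Subring.closure {γ}, single (0 : Fin (n + 1)) (0 : Fin (n + 1)) a ∈ S := by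
    intro a ha
    induction ha using Subring.closure_induction with
    | mem x hx => rw [Set.mem_singleton_iff.1 hx]; exact hgγ
    | zero => rw [Matrix.single_zero]; exact S.zero_mem
    | one => exact hgE
    | add x y _ _ hx hy => rw [Matrix.single_add]; exact S.add_mem hx hy
    | neg x _ hx =>
      have h2 : single 0 0 (-x) = -(single (0 : Fin (n + 1)) (0 : Fin (n + 1)) x) := by
        ext i j
        simp only [Matrix.neg_apply, Matrix.single_apply]
        by_cases h : 0 = i ∧ 0 = j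
        · rw [if_pos h, if_pos h]
        · rw [if_neg h, if_neg h, neg_zero]
      rw [h2]; exact S.neg_mem hx
    | mul x y _ _ hx hy =>
      have := S.mul_mem hx hy
      rw [Matrix.single_mul_single_same] at this
      exact this
  apply eq_self_of_single g.toRingHom
  intro x y a
  refine path_gen ⊤ S (tt d) ?_ ?_ (fun a _ => hA a (by rw [hγ]; exact Subring.mem_top a)) hgT x y a (Subring.mem_top a)
  · intro i j hij
    by_contra hcon
    apply hij
    rw [tt, Matrix.of_apply, pth, Matrix.of_apply, if_neg hcon, mul_zero]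
  · intro i j hij
    refine ⟨?_, Subring.mem_top _, Subring.mem_top _⟩
    rw [tt, Matrix.of_apply, pth, Matrix.of_apply, if_pos hij, mul_one]
    exact inv_ne_zero (hd i)

end rigid

end Cfsg.Agent.H976.FC
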