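import Cfsg.Agent.H198.FC.DefsB
import Cfsg.Agent.H976.FC.Rigid

/-!
# S5764, C4: from matrices to `End_K(V)` (helper976)
-/

set_option autoImplicit false

open Matrix
open scoped Kronecker

namespace Cfsg.Agent.H976.FC

open Cfsg.Agent.H198.FC

universe u v

section lift

variable {K : Type u} [Field K] {V : Type v} [AddCommGroup V] [Module K V]

theorem Cl_neg_right (b : Cl K V) (v w : V) : b.B v (-w) = -b.B v w := by
  have h1 := b.smul_right (-1) v w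
  rw [neg_one_smul, map_neg, map_one, neg_one_mul] at h1
  exact h1

theorem Cl_zero_right (b : Cl K V) (v : V) : b.B v 0 = 0 := by
  have h1 := b.smul_right 0 v 0
  rw [zero_smul, map_zero, zero_mul] at h1
  exact h1

theorem Cl_neg_left (b : Cl K V) (v w : V) : b.B (-v) w = -b.B v w := by
  have h1 := b.smul_left (-1) v w
  rw [neg_one_smul, neg_one_mul] at h1
  exact h1

theorem Cl_zero_left (b : Cl K V) (w : V) : b.B 0 w = 0 := by
  have h1 := b.smul_left 0 0 w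
  rw [zero_smul, zero_mul] at h1
  exact h1

theorem isom_of_skew (b : Cl K V) (Z : R K V) (hZ : b.Adj Z (-Z)) (hZ2 : Z * Z = 0) : b.Isom (1 + Z) := by
  intro v w
  have h1 : ∀ v w, b.B (Z v) w = -b.B v (Z w) := by
    intro v w
    rw [hZ v w]
    exact Cl_neg_right b v (Z w)
  have h2 : Z (Z w) = 0 := by
    have := congrArg (fun X : R K V => X w) hZ2
    exact this
  show b.B (v + Z v) (w + Z w) = b.B v w
  rw [b.add_left, b.add_right, b.add_right, h1 v w, h1 v (Z w), h2, Cl_zero_right]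
  ring

theorem det_one_add [Finite K] [Module.Finite K V] (Z : R K V) (hZ2 : Z * Z = 0) : LinearMap.det (1 + Z) = 1 := by
  obtain ⟨p, hp⟩ := CharP.exists K
  have hpp : p.Prime := (CharP.char_is_prime_or_zero K p).resolve_right (CharP.char_ne_zero_of_finite K p)
  have : Fact p.Prime := ⟨hpp⟩
  have hpow : ∀ k : ℕ, (1 + Z) ^ k = 1 + (k : K) • Z := by
    intro k
    induction k with
    | zero => simp
    | succ k ih =>
      rw [pow_succ, ih, add_mul, one_mul, mul_add, mul_one, smul_mul_assoc, hZ2, smul_zero, add_zero, Nat.cast_succ,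
        add_smul, one_smul]
      abel
  have h1 : (1 + Z) ^ p = 1 := by rw [hpow, CharP.cast_eq_zero, zero_smul, add_zero]
  have h2 : (LinearMap.det (1 + Z)) ^ p = 1 := by rw [← map_pow, h1, map_one]
  exact frobenius_inj K p (by rw [frobenius_def, h2, map_one])

variable {I : Type} [Fintype I] [DecidableEq I]

/-- **the four conjugating elements** -/
theorem fiveB_of_rigid [Finite K] [Module.Finite K V] [Nonempty I] {n : ℕ} (b : Cl K V)
    (S : Subgroup (Equiv.Perm (R K V))) (hS : S ≤ RB b)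
    (Φ : Matrix (I × (Fin 2 × Fin (n + 1))) (I × (Fin 2 × Fin (n + 1))) K ≃ₐ[K] R K V)
    (hf : ∀ f ∈ S, ∀ B : Matrix I I K, ∃ B' : Matrix I I K, f (Φ (B ⊗ₖ 1)) = Φ (B' ⊗ₖ 1))
    (Bs : Fin 4 → Matrix I I K) (hBs : ∀ i, ∀ s : K, Bs i ≠ s • (1 : Matrix I I K))
    (hskew : ∀ i, b.Adj (Φ (Bs i ⊗ₖ hh 1 i)) (-Φ (Bs i ⊗ₖ hh 1 i)))
    (rigid : ∀ g : Matrix I I K ≃+* Matrix I I K, (∀ i, ∃ s : K, g (Bs i) = Bs i - s • (1 : Matrix I I K)) →
      ∀ X, g X = X) : FiveB b S := by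
  have hZ2 : ∀ i, Φ (Bs i ⊗ₖ hh 1 i) * Φ (Bs i ⊗ₖ hh 1 i) = 0 := by
    intro i
    rw [← map_mul, ← mul_kronecker_mul, hh_sq, kronecker_zero, map_zero]
  let x : Fin 4 → (R K V)ˣ := fun i =>
    { val := 1 + Φ (Bs i ⊗ₖ hh 1 i)
      inv := 1 - Φ (Bs i ⊗ₖ hh 1 i)
      val_inv := by
        have h1 : ∀ Z : R K V, (1 + Z) * (1 - Z) = 1 - Z * Z := by intro Z; noncomm_ring
        rw [h1, hZ2, sub_zero]
      inv_val := by
        have h1 : ∀ Z : R K V, (1 - Z) * (1 + Z) = 1 - Z * Z := by intro Z; noncomm_ring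
        rw [h1, hZ2, sub_zero] }
  refine ⟨x, fun i => det_one_add _ (hZ2 i), fun i => isom_of_skew b _ (hskew i) (hZ2 i), ?_⟩
  intro f hfS hfx
  have hfRP := (hS hfS).1
  let f0 : R K V ≃+* R K V := { f with map_mul' := hfRP.2, map_add' := hfRP.1 }
  let F := Φ.toRingEquiv.trans (f0.trans Φ.toRingEquiv.symm)
  have hF : ∀ X, F X = Φ.symm (f (Φ X)) := fun X => rfl
  have hid := core_id F (fun B => by
      obtain ⟨B', hB'⟩ := hf f hfS B
      exact ⟨B', by rw [hF, hB', AlgEquiv.symm_apply_apply]⟩) Bs hBs (fun i X => by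
      obtain ⟨X', hX'⟩ := hf _ (hfx i) X
      refine ⟨X', ?_⟩
      have h1 : (cj K V (x i) * f * (cj K V (x i))⁻¹) (Φ (X ⊗ₖ 1)) =
          (1 + Φ (Bs i ⊗ₖ hh 1 i)) * f ((1 - Φ (Bs i ⊗ₖ hh 1 i)) * Φ (X ⊗ₖ 1) * (1 + Φ (Bs i ⊗ₖ hh 1 i))) *
            (1 - Φ (Bs i ⊗ₖ hh 1 i)) := rfl
      rw [h1] at hX'
      have e1 : (1 - Φ (Bs i ⊗ₖ hh 1 i)) * Φ (X ⊗ₖ 1) * (1 + Φ (Bs i ⊗ₖ hh 1 i)) =
          Φ ((1 - Bs i ⊗ₖ hh 1 i) * (X ⊗ₖ 1) * (1 + Bs i ⊗ₖ hh 1 i)) := by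
        rw [map_mul Φ, map_mul Φ, map_sub Φ, map_add Φ, map_one Φ]
      have e2 : ∀ W : R K V, Φ.symm ((1 + Φ (Bs i ⊗ₖ hh 1 i)) * W * (1 - Φ (Bs i ⊗ₖ hh 1 i))) =
          (1 + Bs i ⊗ₖ hh 1 i) * Φ.symm W * (1 - Bs i ⊗ₖ hh 1 i) := by
        intro W
        rw [map_mul Φ.symm, map_mul Φ.symm, map_sub Φ.symm, map_add Φ.symm, map_one Φ.symm, AlgEquiv.symm_apply_apply]
      rw [e1] at hX'
      have h2 := congrArg Φ.symm hX'
      rw [e2, AlgEquiv.symm_apply_apply] at h2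
      rw [hF]
      exact h2) rigid
  apply Equiv.ext
  intro X
  have h1 := hid (Φ.symm X)
  rw [hF, AlgEquiv.apply_symm_apply] at h1
  exact Φ.symm.injective h1

end lift

end Cfsg.Agent.H976.FC
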